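import Groth.Agent.AlgSp.K597.Affine
import Groth.Prelude.Def_AlgSpMor5
import Groth.Prelude.Def_AlgSpCov
import Groth.Agent.AlgSp.K610.Base
import Groth.Agent.AlgSp.K595.DescInst

/-!
# Integral, finite and finite locally free morphisms of sheaves

* `repWith_of_local`: for `P ≤ IsAffineHom`, `RepWith P f` can be checked etale locally on the target.
* `isIntegralMor_iff`, `isFiniteMor_iff`: these are `RepWith @IsIntegralHom`, `RepWith @IsFinite`.
* `repWith_of_family`: descent along a jointly surjective family of etale representable maps.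
-/

set_option autoImplicit false
universe u
open CategoryTheory CategoryTheory.Limits AlgebraicGeometry Opposite AlgSp

namespace K617.FinLoc

open K594.Elem K597.EffDesc K597.Affine

variable {S : Scheme.{u}} {F G : Sp S} {f : F ⟶ G}

/-- For `P ≤ IsAffineHom`, `RepWith P f` can be checked etale locally on the target. -/
theorem repWith_of_local (P : MorphismProperty Scheme.{u}) (hP : P ≤ @IsAffineHom) [P.IsStableUnderBaseChange]
    [IsZariskiLocalAtTarget P] [P.DescendsAlong Fppf.{u}]
    (H : ∀ (T : Over S) (g : (yon S).obj T ⟶ G) (t : T.left),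
      ∃ (V : Over S) (v : V ⟶ T) (W : Over S) (w : W ⟶ V) (fst : (yon S).obj W ⟶ F),
        Etale v.left ∧ t ∈ Set.range v.left ∧ IsPullback fst ((yon S).map w) f ((yon S).map v ≫ g) ∧ P w.left) :
    RepWith P f := by
  refine repWith_of_etale_local _ fun U y t => ?_
  obtain ⟨V₀, v₀, W₀, w₀, fst, hv₀, ⟨t', rfl⟩, sq, hw₀⟩ := H U (secEquiv.symm y) t
  obtain ⟨V, v, hV, hv, ⟨s, hs⟩, -⟩ := exists_affine_nhd V₀ ⊤ t' trivial
  have h1 := isRep_of_isPullback sq
  have h2 := h1.baseChange (IsPullback.of_hasPullback w₀ v)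
  have sqk := (IsPullback.of_hasPullback w₀ v).map (Over.forget S)
  have hw : P (pullback.snd w₀ v).left := MorphismProperty.of_isPullback (P := P) sqk hw₀
  have hwa : IsAffineHom (pullback.snd w₀ v).left := hP _ hw
  have hWa : IsAffine (pullback w₀ v).left := isAffine_of_isAffineHom (pullback.snd w₀ v).left
  rw [secEquiv_precomp, Equiv.apply_symm_apply, ← map_comp_apply] at h2
  refine ⟨V, v ≫ v₀, _, _, _, ?_, ⟨s, ?_⟩, h2, hw, fun O hO => isQuasiAffine_open O hO⟩
  · rw [Over.comp_left]; infer_instance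
  · rw [Over.comp_left, Scheme.Hom.comp_apply, hs]

theorem descendsAlong_integral : MorphismProperty.DescendsAlong @IsIntegralHom Fppf.{u} := by
  have := Groth.Agent.Desc.MorDescent.descendsAlong_isIntegralHom.{u}
  infer_instance

theorem descendsAlong_finite : MorphismProperty.DescendsAlong @IsFinite Fppf.{u} := by
  have := Groth.Agent.Desc.MorDescent.descendsAlong_isFinite.{u}
  infer_instance

theorem integral_le : (@IsIntegralHom : MorphismProperty Scheme.{u}) ≤ @IsAffineHom := fun _ _ f h => by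
  have : IsIntegralHom f := h
  infer_instance

theorem finite_le : (@IsFinite : MorphismProperty Scheme.{u}) ≤ @IsAffineHom := fun _ _ f h => by
  have : IsFinite f := h
  infer_instance

/-- A morphism is integral iff it is representable with integral base changes. -/
theorem isIntegralMor_iff : IsIntegralMor f ↔ RepWith @IsIntegralHom f := by
  constructor
  · intro h
    have := descendsAlong_integral.{u}
    refine repWith_of_local _ integral_le fun T g t => ?_
    obtain ⟨V, v, hV, hv, ht, -⟩ := exists_affine_nhd T ⊤ t trivial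
    obtain ⟨W, w, fst, sq, -, hw⟩ := h hV ((yon S).map v ≫ g)
    exact ⟨V, v, W, w, fst, inferInstance, ht, sq, hw⟩
  · intro h Z hZ g
    obtain ⟨W, i, fst, sq⟩ := h.1 g
    have h1 : IsIntegralHom i.left := h.2 g fst i sq
    exact ⟨W, i, fst, sq, isAffine_of_isAffineHom i.left, h1⟩

/-- A morphism is finite iff it is representable with finite base changes. -/
theorem isFiniteMor_iff : IsFiniteMor f ↔ RepWith @IsFinite f := by
  constructor
  · intro h
    have := descendsAlong_finite.{u}
    refine repWith_of_local _ finite_le fun T g t => ?_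
    obtain ⟨V, v, hV, hv, ht, -⟩ := exists_affine_nhd T ⊤ t trivial
    obtain ⟨W, w, fst, sq, -, hw⟩ := h hV ((yon S).map v ≫ g)
    exact ⟨V, v, W, w, fst, inferInstance, ht, sq, hw⟩
  · intro h Z hZ g
    obtain ⟨W, i, fst, sq⟩ := h.1 g
    have h1 : IsFinite i.left := h.2 g fst i sq
    exact ⟨W, i, fst, sq, isAffine_of_isAffineHom i.left, h1⟩

/-- Descent of `RepWith P` for `P ≤ IsAffineHom` along a jointly surjective family of etale representable maps. -/
theorem repWith_of_family (P : MorphismProperty Scheme.{u}) (hP : P ≤ @IsAffineHom) [P.IsStableUnderBaseChange]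
    [IsZariskiLocalAtTarget P] [P.DescendsAlong Fppf.{u}] {ι : Type*} {Gi Fi : ι → Sp S} {j : ∀ i, Gi i ⟶ G}
    (hj : ∀ i, RepWith @Etale (j i)) (hcov : ∀ x : Points G, ∃ i, x ∈ Set.range (Points.map (j i)))
    {p : ∀ i, Fi i ⟶ F} {q : ∀ i, Fi i ⟶ Gi i} (sq : ∀ i, IsPullback (p i) (q i) f (j i))
    (hq : ∀ i, RepWith P (q i)) : RepWith P f := by
  refine repWith_of_local P hP fun T g t => ?_
  obtain ⟨i, y, hy⟩ := hcov (Points.ofPt g t)
  obtain ⟨V, v, fst, sqV⟩ := (hj i).1 g
  have hv : Etale v.left := (hj i).2 g fst v sqV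
  obtain ⟨W, w, fst', sqW⟩ := (hq i).1 fst
  have hw : P w.left := (hq i).2 fst fst' w sqW
  refine ⟨V, v, W, w, fst' ≫ p i, hv, ?_, ?_, hw⟩
  · obtain ⟨v', -, hv'⟩ := K610.Base.exists_of_isPullback_yon sqV y t hy
    exact ⟨v', hv'⟩
  · rw [← sqV.w]
    exact sqW.paste_horiz (sq i)

theorem integral_family {ι : Type*} {Gi Fi : ι → Sp S} {j : ∀ i, Gi i ⟶ G}
    (hj : ∀ i, RepWith @Etale (j i)) (hcov : ∀ x : Points G, ∃ i, x ∈ Set.range (Points.map (j i)))
    {p : ∀ i, Fi i ⟶ F} {q : ∀ i, Fi i ⟶ Gi i} (sq : ∀ i, IsPullback (p i) (q i) f (j i))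
    (hq : ∀ i, IsIntegralMor (q i)) : IsIntegralMor f := by
  have := descendsAlong_integral.{u}
  exact isIntegralMor_iff.2 (repWith_of_family _ integral_le hj hcov sq fun i => isIntegralMor_iff.1 (hq i))

theorem finite_family {ι : Type*} {Gi Fi : ι → Sp S} {j : ∀ i, Gi i ⟶ G}
    (hj : ∀ i, RepWith @Etale (j i)) (hcov : ∀ x : Points G, ∃ i, x ∈ Set.range (Points.map (j i)))
    {p : ∀ i, Fi i ⟶ F} {q : ∀ i, Fi i ⟶ Gi i} (sq : ∀ i, IsPullback (p i) (q i) f (j i))
    (hq : ∀ i, IsFiniteMor (q i)) : IsFiniteMor f := by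
  have := descendsAlong_finite.{u}
  exact isFiniteMor_iff.2 (repWith_of_family _ finite_le hj hcov sq fun i => isFiniteMor_iff.1 (hq i))

/-- finite, flat, locally of finite presentation -/
abbrev Flf : MorphismProperty Scheme.{u} := @IsFinite ⊓ (@Flat ⊓ @LocallyOfFinitePresentation)

theorem finLocFree_eq : finLocFree.{u} = Flf.{u} := rfl

theorem descendsAlong_finLocFree : Flf.{u}.DescendsAlong Fppf.{u} := by
  have := descendsAlong_finite.{u}
  have : MorphismProperty.DescendsAlong @Flat Fppf.{u} := K595.DescInst.flat.{u}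
  infer_instance

theorem finLocFree_family {ι : Type*} {Gi Fi : ι → Sp S} {j : ∀ i, Gi i ⟶ G}
    (hj : ∀ i, RepWith @Etale (j i)) (hcov : ∀ x : Points G, ∃ i, x ∈ Set.range (Points.map (j i)))
    {p : ∀ i, Fi i ⟶ F} {q : ∀ i, Fi i ⟶ Gi i} (sq : ∀ i, IsPullback (p i) (q i) f (j i))
    (hq : ∀ i, IsFinLocFreeMor (q i)) : IsFinLocFreeMor f := by
  have := descendsAlong_finLocFree.{u}
  change RepWith finLocFree.{u} f
  rw [finLocFree_eq]
  exact repWith_of_family Flf.{u} (inf_le_left.trans finite_le) hj hcov sq hq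

end K617.FinLoc
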