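import Groth.Agent.AlgSp.K617.LocFree
import Groth.Agent.AlgSp.K648.Chart
import Groth.Agent.AlgSp.K617.FinLoc

/-!
# Direct images of quasi-coherent modules along affine morphisms; finite locally free morphisms
-/

set_option autoImplicit false
set_option backward.isDefEq.respectTransparency false
universe u

open CategoryTheory CategoryTheory.Limits AlgebraicGeometry Opposite

namespace K617.PushQc

open AlgSp K644.Chart K644.EtSite K644.Site Groth.Agent.Etbase.FFExact K648.Push K648.Basic

variable {S : Scheme.{u}} {X Y : Sp S} {f : X ⟶ Y}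

/-- The direct image of a quasi-coherent module along an affine morphism is quasi-coherent. -/
theorem isCart_push (hf : Representable f) (haff : IsAffineMor f) {M : ModEt X} (hM : IsCart M) :
    IsCart ((pushModEt hf).obj M) := by
  intro E E1 g hE hE1
  have hZ := isAffine_bc hf haff E hE
  have hZ1 := isAffine_bc hf haff E1 hE1
  have h := hM ((EtOver.bc hf).map g) hZ hZ1
  let m1 : Module Γ((𝟭 Scheme.{u}).obj (EtOver.bcObj hf E).obj.left.left, ⊤)
    (((pushModEt hf).obj M).val.presheaf.obj (op E)) := modSec M ((EtOver.bc hf).obj E)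
  let m2 : Module Γ((𝟭 Scheme.{u}).obj (EtOver.bcObj hf E1).obj.left.left, ⊤)
    (((pushModEt hf).obj M).val.presheaf.obj (op E1)) := modSec M ((EtOver.bc hf).obj E1)
  let m3 : Module Γ((𝟭 Scheme.{u}).obj E.obj.left.left, ⊤)
    (((pushModEt hf).obj M).val.presheaf.obj (op E)) := modSec ((pushModEt hf).obj M) E
  let m4 : Module Γ((𝟭 Scheme.{u}).obj E1.obj.left.left, ⊤)
    (((pushModEt hf).obj M).val.presheaf.obj (op E1)) := modSec ((pushModEt hf).obj M) E1
  exact IsBC.of_isPullback (D := Scheme.{u}) (T := 𝟭 Scheme.{u})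
    (EtOver.isPullback_bcMap_left hf g).flip hE hE1 hZ (fun _ _ => rfl) (fun _ _ => rfl) _ h

theorem isQuasicoherent_push (hf : Representable f) (haff : IsAffineMor f) (M : ModEt X) [M.IsQuasicoherent] :
    ((pushModEt hf).obj M).IsQuasicoherent :=
  (isQuasicoherent_iff_isCart _).2 (isCart_push hf haff ((isQuasicoherent_iff_isCart M).1 inferInstance))

theorem isCart_unit : IsCart (unitModEt X) :=
  (isCart_iff_isQC _).2 (K644.Free.isQC_unit (T := EtOver.toScheme X) (R := (OEtRing X).obj))

/-- Sections of `f_* O` over an affine object as an algebra. -/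
theorem sec_push_unit (hf : Representable f) (E : EtOver Y) :
    letI := (bcΓ hf E).toAlgebra
    Nonempty (Γ(sch ((EtOver.bc hf).obj E), ⊤) ≃ₗ[Γ(sch E, ⊤)]
      (((pushModEt hf).obj (unitModEt X)).val.presheaf.obj (op E))) := by
  let := (bcΓ hf E).toAlgebra
  exact ⟨{ toFun := fun x => ULift.up x
           invFun := fun x => ULift.down x
           left_inv := fun _ => rfl
           right_inv := fun _ => rfl
           map_add' := fun _ _ => rfl
           map_smul' := fun _ _ => rfl }⟩

theorem finLocFree_le_finite : (finLocFree : MorphismProperty Scheme.{u}) ≤ @IsFinite := fun _ _ _ h => h.1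

theorem isFiniteMor_of_finLocFree (h : IsFinLocFreeMor f) : IsFiniteMor f :=
  K617.FinLoc.isFiniteMor_iff.2 ⟨h.1, fun _ _ g fst snd sq => (h.2 g fst snd sq).1⟩

theorem finLocFree_bcπ (hf : Representable f) (h : IsFinLocFreeMor f) (E : EtOver Y) :
    finLocFree (EtOver.bcπ hf E).left := h.2 _ _ _ (EtOver.isPullback_bcObj hf E)

theorem exists_data_of_finLocFree (hf : Representable f) (h : IsFinLocFreeMor f) :
    ∃ q : SheafOfModules.LocalGeneratorsData.{u + 1} ((pushModEt hf).obj (unitModEt X)),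
      q.IsLocallyFreeData ∧ q.IsFiniteType := by
  have haff : IsAffineMor f := isAffineMor_of_isFiniteMor (isFiniteMor_of_finLocFree h)
  refine K617.LocFree.exists_data (isCart_push hf haff isCart_unit) fun E hE => ?_
  have hZ := isAffine_bc hf haff E hE
  have hE' : IsAffine (sch E) := hE
  have hZ' : IsAffine (sch ((EtOver.bc hf).obj E)) := hZ
  obtain ⟨h1, h2, h3⟩ := finLocFree_bcπ hf h E
  let m : sch ((EtOver.bc hf).obj E) ⟶ sch E := (EtOver.bcπ hf E).left
  have k1 : m.appTop.hom.Finite := by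
    have h1' : IsFinite m := h1
    exact ((HasAffineProperty.iff_of_isAffine (P := @IsFinite)).1 h1').2
  have k2 : m.appTop.hom.Flat := (HasRingHomProperty.iff_of_isAffine (P := @Flat) (f := m)).1 h2
  have k3 : m.appTop.hom.FinitePresentation :=
    (HasRingHomProperty.iff_of_isAffine (P := @LocallyOfFinitePresentation) (f := m)).1 h3
  let := (bcΓ hf E).toAlgebra
  obtain ⟨e⟩ := sec_push_unit hf E
  have a1 : Module.Finite Γ(sch E, ⊤) Γ(sch ((EtOver.bc hf).obj E), ⊤) := k1
  have a2 : Module.Flat Γ(sch E, ⊤) Γ(sch ((EtOver.bc hf).obj E), ⊤) := k2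
  have a3 : Algebra.FinitePresentation Γ(sch E, ⊤) Γ(sch ((EtOver.bc hf).obj E), ⊤) := k3
  have a4 := (Module.FinitePresentation.iff_finitePresentation_of_finite _ _).2 a3
  exact ⟨Module.FinitePresentation.of_equiv e, Module.Flat.of_linearEquiv e.symm⟩

theorem finLocFree_of_data (hY : IsAlgSpace Y) (hf : Representable f) (haff : IsAffineMor f)
    (q : SheafOfModules.LocalGeneratorsData.{u + 1} ((pushModEt hf).obj (unitModEt X)))
    (h1 : q.IsLocallyFreeData) (h2 : q.IsFiniteType) : IsFinLocFreeMor f := by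
  let ι := {E : EtOver Y // IsAffine (sch E) ∧ ∃ i, Nonempty (E ⟶ q.X i)}
  refine K617.FinLoc.finLocFree_family (ι := ι) (j := fun E => E.1.obj.hom) (fun E => E.1.property) ?_
    (fun E => (EtOver.isPullback_bcObj hf E.1)) ?_
  · intro y
    obtain ⟨E, hE, u, rfl⟩ := K648.Chart.exists_affine_chart hY y
    obtain ⟨E', g, i, p, v, hE', hv⟩ := K617.LocFree.exists_affine_of_coversTop q.coversTop E u
    refine ⟨⟨E', hE', i, ⟨p⟩⟩, ?_⟩
    have : Points.ofPt E.obj.hom u = Points.ofPt E'.obj.hom v := by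
      rw [K648.Chart.ofPt_hom_left g, ← hv]
    rw [this]
    exact ⟨Points.ofPt (𝟙 _) v, by rw [Points.map_ofPt, Category.id_comp]⟩
  · rintro ⟨E, hE, i, ⟨p⟩⟩
    have hZ := isAffine_bc hf haff E hE
    have hE' : IsAffine (sch E) := hE
    have hZ' : IsAffine (sch ((EtOver.bc hf).obj E)) := hZ
    obtain ⟨b1, b2⟩ := K617.LocFree.free_finite_of_data q h1 h2 i hE p
    let m : sch ((EtOver.bc hf).obj E) ⟶ sch E := (EtOver.bcπ hf E).left
    let := (bcΓ hf E).toAlgebra
    obtain ⟨e⟩ := sec_push_unit hf E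
    have a1 : Module.Finite Γ(sch E, ⊤) Γ(sch ((EtOver.bc hf).obj E), ⊤) := Module.Finite.equiv e.symm
    have a2 : Module.Free Γ(sch E, ⊤) Γ(sch ((EtOver.bc hf).obj E), ⊤) := Module.Free.of_equiv e.symm
    have a5 : Module.FinitePresentation Γ(sch E, ⊤) Γ(sch ((EtOver.bc hf).obj E), ⊤) :=
      Module.finitePresentation_of_projective _ _
    have a3 : Algebra.FinitePresentation Γ(sch E, ⊤) Γ(sch ((EtOver.bc hf).obj E), ⊤) :=
      (Module.FinitePresentation.iff_finitePresentation_of_finite _ _).1 inferInstance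
    have a4 : Module.Flat Γ(sch E, ⊤) Γ(sch ((EtOver.bc hf).obj E), ⊤) := inferInstance
    refine (repWith_yon_map_iff _ _).2 ⟨?_, ?_, ?_⟩
    · exact (HasAffineProperty.iff_of_isAffine (P := @IsFinite) (f := m)).2 ⟨hZ', a1⟩
    · exact (HasRingHomProperty.iff_of_isAffine (P := @Flat) (f := m)).2 a4
    · exact (HasRingHomProperty.iff_of_isAffine (P := @LocallyOfFinitePresentation) (f := m)).2 a3

end K617.PushQc
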