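import Groth.Agent.AlgSp.K617.EtFin2
import Groth.Agent.AlgSp.K610.Base
import Groth.Prelude.Def_AlgSpDec

/-!
# The number of geometric points in the fibres of a chart of an algebraic space

For `p : h_U ⟶ X` and `n : ℕ`, `GEX p n ⊆ |X|` is the set of points over which some field valued point has at
least `n` lifts to `U`.

* `preimage_GEX` : its preimage under `g : h_T ⟶ X` is `GE (U ×_X T ⟶ T) n`.
* `isOpen_GEX` : it is open for `p` étale and separated.
* `exists_notMem_GEX` : for `X` decent and `U` quasi-compact the intersection over `n` is empty.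
-/

set_option autoImplicit false
universe u
open CategoryTheory CategoryTheory.Limits AlgebraicGeometry Opposite AlgSp

namespace K617.Strat

open K617.EtFin

variable {S : Scheme.{u}} {X : Sp S} {U : Over S}

/-- The points of `X` over which some field valued point has at least `n` lifts to `U`. -/
def GEX (p : (yon S).obj U ⟶ X) (n : ℕ) : Set (Points X) :=
  {x | ∃ (Ω : Type u) (_ : Field Ω) (str : Spec (CommRingCat.of Ω) ⟶ S)
      (ξ : (yon S).obj (Over.mk str) ⟶ X) (σ : Fin n → (Over.mk str ⟶ U)),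
      (∀ t, Points.ofPt ξ t = x) ∧ Function.Injective σ ∧ ∀ i, (yon S).map (σ i) ≫ p = ξ}

theorem GEX_antitone (p : (yon S).obj U ⟶ X) {m n : ℕ} (h : m ≤ n) : GEX p n ⊆ GEX p m := by
  rintro t ⟨Ω, _, str, ξ, σ, ht, hσ, hf⟩
  exact ⟨Ω, inferInstance, str, ξ, fun i => σ (Fin.castLE h i), ht, hσ.comp (Fin.castLE_injective h),
    fun i => hf _⟩

/-- The preimage of `GEX p n` under a morphism from a scheme. -/
theorem preimage_GEX {p : (yon S).obj U ⟶ X} {T V : Over S} {g : (yon S).obj T ⟶ X} {fst : V ⟶ U} {snd : V ⟶ T}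
    (sq : IsPullback ((yon S).map fst) ((yon S).map snd) p g) (n : ℕ) :
    Points.ofPt g ⁻¹' GEX p n = GE snd.left n := by
  ext t
  constructor
  · rintro ⟨Ω, _, str, ξ, σ, ht, hσ, hf⟩
    obtain ⟨W, w, a, b, -, hb, hab⟩ := K610.Base.exists_common ξ g (pt Ω : ↥(Over.mk str).left) t (ht _)
    -- replace `W` by the residue field of `w`
    let K := ↥(W.left.residueField w)
    let W' : Over S := Over.mk (frf W.left w ≫ W.hom)
    let i : W' ⟶ W := Over.homMk (frf W.left w) rfl
    have hab' : (yon S).map (i ≫ a) ≫ ξ = (yon S).map (i ≫ b) ≫ g := by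
      rw [Functor.map_comp, Functor.map_comp, Category.assoc, Category.assoc, hab]
    have hc : ∀ j, (yon S).map ((i ≫ a) ≫ σ j) ≫ p = (yon S).map (i ≫ b) ≫ g := fun j => by
      rw [Functor.map_comp, Category.assoc, hf, hab']
    choose s hs using fun j => (yon S).map_surjective (sq.lift _ _ (hc j))
    have hs1 : ∀ j, s j ≫ fst = (i ≫ a) ≫ σ j := fun j => (yon S).map_injective (by
      rw [Functor.map_comp, hs, sq.lift_fst])
    have hs2 : ∀ j, s j ≫ snd = i ≫ b := fun j => (yon S).map_injective (by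
      rw [Functor.map_comp, hs, sq.lift_snd])
    refine ⟨K, inferInstance, (i ≫ b).left, fun j => (s j).left, fun x => ?_, fun j k hjk => hσ ?_, fun j => ?_⟩
    · change (frf W.left w ≫ b.left) x = t
      rw [Scheme.Hom.comp_apply, frf_apply, hb]
    · have h1 : s j = s k := Over.OverMorphism.ext hjk
      have h2 : (i ≫ a) ≫ σ j = (i ≫ a) ≫ σ k := by rw [← hs1, ← hs1, h1]
      apply Over.OverMorphism.ext
      have h3 := congrArg CommaMorphism.left h2
      have : Epi (i ≫ a).left := epi_Spec_field (Ω := Ω) (Ω' := K) (i ≫ a).left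
      exact (cancel_epi (i ≫ a).left).1 h3
    · rw [← hs2 j]; rfl
  · rintro ⟨Ω, _, τ, σ, ht, hσ, hf⟩
    let σ' : ∀ i, Over.mk (τ ≫ T.hom) ⟶ V := fun i => Over.homMk (σ i) (by
      change σ i ≫ V.hom = τ ≫ T.hom
      rw [← Over.w snd, ← Category.assoc, hf])
    let τ' : Over.mk (τ ≫ T.hom) ⟶ T := Over.homMk τ rfl
    have h2 : ∀ i, σ' i ≫ snd = τ' := fun i => Over.OverMorphism.ext (hf i)
    refine ⟨Ω, inferInstance, τ ≫ T.hom, (yon S).map τ' ≫ g, fun i => σ' i ≫ fst, fun x => ?_,
      fun i j hij => hσ ?_, fun i => ?_⟩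
    · rw [K610.Base.ofPt_map_comp]
      exact congrArg _ (ht x)
    · have h1 : σ' i = σ' j := (yon S).map_injective (sq.hom_ext
        (by rw [← Functor.map_comp, ← Functor.map_comp, show σ' i ≫ fst = σ' j ≫ fst from hij])
        (by rw [← Functor.map_comp, ← Functor.map_comp, h2, h2]))
      exact congrArg CommaMorphism.left h1
    · rw [Functor.map_comp, Category.assoc, sq.w, ← Category.assoc, ← Functor.map_comp, h2]

theorem GEX_zero (p : (yon S).obj U ⟶ X) (hp : Representable p) : GEX p 0 = Set.univ := by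
  refine Set.eq_univ_of_forall fun x => ?_
  obtain ⟨T, g, t, rfl⟩ := K610.Base.exists_ofPt_eq x
  obtain ⟨V, snd, fst, sq⟩ := hp g
  obtain ⟨fst, rfl⟩ := (yon S).map_surjective fst
  rw [← Set.mem_preimage, preimage_GEX sq, EtFin.GE_zero]
  trivial

theorem GEX_one (p : (yon S).obj U ⟶ X) (hp : Representable p) : GEX p 1 = Set.range (Points.ofPt p) := by
  ext x
  obtain ⟨T, g, t, rfl⟩ := K610.Base.exists_ofPt_eq x
  obtain ⟨V, snd, fst, sq⟩ := hp g
  obtain ⟨fst, rfl⟩ := (yon S).map_surjective fst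
  rw [← Set.mem_preimage, ← Set.mem_preimage, preimage_GEX sq, ← Set.image_univ, K610.Base.preimage_image_ofPt sq, mem_GE_one_iff, Set.preimage_univ,
    Set.image_univ]

theorem isOpen_GEX (p : (yon S).obj U ⟶ X) (hp : RepWith @Etale p) (hs : RepWith @IsSeparated p) (n : ℕ) :
    IsOpen (GEX p n) := by
  rw [Points.isOpen_iff]
  intro T g
  obtain ⟨V, snd, fst, sq⟩ := hp.1 g
  have h1 : Etale snd.left := hp.2 g fst snd sq
  have h2 : IsSeparated snd.left := hs.2 g fst snd sq
  obtain ⟨fst, rfl⟩ := (yon S).map_surjective fst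
  rw [preimage_GEX sq]
  exact isOpen_GE n snd.left

/-- For a quasi-compact étale chart of a decent space no point has fibres with arbitrarily many geometric points. -/
theorem exists_notMem_GEX (p : (yon S).obj U ⟶ X) (hp : RepWith @Etale p) [CompactSpace U.left]
    (hX : IsDecent X) (x : Points X) : ∃ n, x ∉ GEX p n := by
  obtain ⟨q, rfl, -, hq⟩ := hX x
  obtain ⟨V, snd, fst, sq⟩ := hp.1 q.toHom
  have h1 : Etale snd.left := hp.2 _ fst snd sq
  obtain ⟨fst, rfl⟩ := (yon S).map_surjective fst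
  have h2 : QuasiCompact fst.left := hq.2 p _ fst sq.flip
  have h3 : CompactSpace V.left := QuasiCompact.compactSpace_of_compactSpace fst.left
  obtain ⟨n, hn⟩ := GE_eq_empty_of_compactSpace (k := q.K) snd.left
  refine ⟨n, fun h => ?_⟩
  have h4 : (pt q.K : ↥q.pt.left) ∈ Points.ofPt q.toHom ⁻¹' GEX p n := by
    rw [Set.mem_preimage, Points.ofPt_toHom]
    exact h
  rw [preimage_GEX sq, hn] at h4
  exact h4

end K617.Strat
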