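import Groth.Agent.AlgSp.K617.Sober
import Groth.Agent.AlgSp.K610.Factor
import Groth.Agent.AlgSp.K620.Dec

/-!
# Decent algebraic spaces have a dense open subscheme

The results on the largest open subscheme and on spaces with a finite étale cover by a quasi-separated scheme enter
as hypotheses of `exists_dense`.
-/

set_option autoImplicit false
universe u v
open CategoryTheory CategoryTheory.Limits AlgebraicGeometry Opposite AlgSp TopologicalSpace

namespace K617.DenseOpen

open K617.EtFin K617.Strat K617.Sober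

variable {S : Scheme.{u}}

/-- There is a level `n` such that the points with at least `n + 1` geometric points in the fibres of the chart are
dense but those with at least `n + 2` are not. -/
theorem exists_level_dense {X : Sp S} (hX : IsDecent X) {U : Over S} [IsAffine U.left] [Nonempty U.left]
    {p : (yon S).obj U ⟶ X} (hp : RepWith @Etale p) (hs : RepWith @IsSeparated p) :
    ∃ (n : ℕ) (u : ↥U.left), Points.ofPt p u ∈ GEX p (n + 1) ∧ Points.ofPt p u ∉ closure (GEX p (n + 2)) := by
  -- the statement `D n`: the preimage of `GEX p n` is dense in `U`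
  have hcl : ∀ n, Points.ofPt p ⁻¹' closure (GEX p n) = closure (Points.ofPt p ⁻¹' GEX p n) := fun n =>
    (K610.Base.isOpenMap_ofPt_etale hp).preimage_closure_eq_closure_preimage (Points.continuous_ofPt p) _
  by_contra hcon
  push Not at hcon
  have h1 : ∀ n, Dense (Points.ofPt p ⁻¹' GEX p (n + 1)) := by
    intro n
    induction n with
    | zero =>
      rw [GEX_one p hp.1]
      have : Points.ofPt p ⁻¹' Set.range (Points.ofPt p) = Set.univ := Set.preimage_range _
      rw [this]; exact dense_univ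
    | succ n ih =>
      have h2 : Points.ofPt p ⁻¹' GEX p (n + 1) ⊆ closure (Points.ofPt p ⁻¹' GEX p (n + 2)) := by
        intro u hu
        rw [← hcl]
        exact hcon n u hu
      exact (ih.mono h2).of_closure
  obtain ⟨x, -, hx⟩ := exists_mem_of_dense_opens (X := ↥U.left) (C := Set.univ) isClosed_univ Set.univ_nonempty
    (fun n => Points.ofPt p ⁻¹' GEX p (n + 1))
    (fun n => (isOpen_GEX p hp hs _).preimage (Points.continuous_ofPt p)) (by
      rintro n W hW ⟨w, hw, -⟩
      obtain ⟨y, hy1, hy2⟩ := (h1 n).inter_open_nonempty W hW ⟨w, hw⟩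
      exact ⟨y, ⟨hy1, trivial⟩, hy2⟩)
  obtain ⟨n, hn⟩ := exists_notMem_GEX p hp hX (Points.ofPt p x)
  exact hn (GEX_antitone p (Nat.le_succ n) (hx n))

/-- An étale separated chart all of whose fibres have exactly `n` geometric points over an open subspace is finite
over it. -/
theorem exists_finite_chart {X : Space S} {U : Over S} {p : (yon S).obj U ⟶ X.obj} (hp : RepWith @Etale p)
    (hs : RepWith @IsSeparated p) (n : ℕ) (W : Set (Points X.obj)) (hW : IsOpen W) (h1 : W ⊆ GEX p (n + 1))
    (h2 : W ∩ GEX p (n + 2) = ∅) :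
    ∃ (X' : Space S) (j : X' ⟶ X) (V : Over S) (i : V ⟶ U) (a : (yon S).obj V ⟶ X'.obj),
      RepWith @IsOpenImmersion j.hom ∧ Set.range (Points.map j.hom) = W ∧ IsOpenImmersion i.left ∧
      RepWith @IsFinite a ∧ RepWith @Etale a ∧ RepWith @Surjective a := by
  obtain ⟨X', j, hj, hr⟩ := K610.Sub.exists_open_subspace X W hW
  -- the chart is the pullback
  obtain ⟨V, snd, fst, sq⟩ := hj.1 p
  have hcomp : ∀ {T : Over S} (g : (yon S).obj T ⟶ X'.obj) (t : ↥T.left), Points.ofPt (g ≫ j.hom) t ∈ W :=
    fun g t => by rw [← hr, K610.Base.ofPt_comp]; exact ⟨_, rfl⟩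
  refine ⟨X', j, V, snd, fst, hj, hr, hj.2 p fst snd sq, ⟨?_, ?_⟩,
    MorphismProperty.of_isPullback (P := RepWith @Etale) sq.flip hp, ?_⟩
  · exact MorphismProperty.of_isPullback (P := Representable) sq.flip hp.1
  · intro T T' g fst' snd' sq'
    have sq2 : IsPullback (fst' ≫ (yon S).map snd) ((yon S).map snd') p (g ≫ j.hom) := sq'.paste_horiz sq.flip
    have hse : Etale snd'.left := hp.2 _ _ snd' sq2
    have hss : IsSeparated snd'.left := hs.2 _ _ snd' sq2
    obtain ⟨f, hf⟩ := (yon S).map_surjective (fst' ≫ (yon S).map snd)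
    rw [← hf] at sq2
    refine isFinite_of_GE (n + 1) snd'.left ?_ ?_
    · rw [← preimage_GEX sq2]
      exact Set.eq_univ_of_forall fun t => h1 (hcomp g t)
    · rw [← preimage_GEX sq2]
      refine Set.eq_empty_of_forall_notMem fun t ht => ?_
      have : Points.ofPt (g ≫ j.hom) t ∈ W ∩ GEX p (n + 2) := ⟨hcomp g t, ht⟩
      rw [h2] at this
      exact this
  · refine K610.Base.repWith_surjective_of_points
      (MorphismProperty.of_isPullback (P := Representable) sq.flip hp.1) fun x => ?_
    have h3 : Points.map j.hom x ∈ GEX p 1 := GEX_antitone p (Nat.le_add_left 1 n) (h1 (hr ▸ ⟨x, rfl⟩))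
    rw [GEX_one p hp.1] at h3
    obtain ⟨u, hu⟩ := h3
    obtain ⟨z, hz, -⟩ := K610.Base.exists_of_isPullback sq x (Points.ofScheme U u) (by
      rw [← hu, ← Points.ofPt_eq_map_ofScheme])
    exact ⟨z, hz⟩

/-- Open immersions into quasi-separated schemes have quasi-separated source. -/
theorem quasiSeparatedSpace_of_isOpenImmersion {V U : Scheme.{u}} (i : V ⟶ U) [IsOpenImmersion i]
    [QuasiSeparatedSpace U] : QuasiSeparatedSpace V :=
  i.isOpenEmbedding.quasiSeparatedSpace

/-- A decent algebraic space has a dense open subscheme, given the largest open subscheme and the case of spaces with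
a finite étale cover by a quasi-separated scheme. -/
theorem exists_dense (X : Space S) (hX : IsDecent X.obj)
    (h197 : ∃ (X₀ : Space S) (j : X₀ ⟶ X), RepWith @IsOpenImmersion j.hom ∧ X₀.obj.obj.IsRepresentable ∧
      ∀ (X'' : Space S) (j'' : X'' ⟶ X), RepWith @IsOpenImmersion j''.hom → X''.obj.obj.IsRepresentable →
        ∃ k : X'' ⟶ X₀, k ≫ j = j'')
    (h204 : ∀ (X' : Space S) (V : Over S) (a : (yon S).obj V ⟶ X'.obj), RepWith @IsFinite a →
      RepWith @Etale a → RepWith @Surjective a → QuasiSeparatedSpace ↥V.left →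
      ∃ (X'' : Space S) (j : X'' ⟶ X'), RepWith @IsOpenImmersion j.hom ∧ X''.obj.obj.IsRepresentable ∧
        Dense (Set.range (Points.map j.hom))) :
    ∃ (X' : Space S) (j : X' ⟶ X), RepWith @IsOpenImmersion j.hom ∧ X'.obj.obj.IsRepresentable ∧
      Dense (Set.range (Points.map j.hom)) := by
  obtain ⟨X₀, j₀, hj₀, hrep, hmax⟩ := h197
  refine ⟨X₀, j₀, hj₀, hrep, ?_⟩
  by_contra hcon
  obtain ⟨x, hx⟩ : ∃ x, x ∉ closure (Set.range (Points.map j₀.hom)) := by
    by_contra h
    push Not at h
    exact hcon h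
  obtain ⟨U₀, p₀, hp₀, hs₀⟩ := X.property.atlas
  obtain ⟨u₀, rfl⟩ := K610.Base.surjective_ofPt hs₀ x
  obtain ⟨U, i, u, hU, -, -, hp, hs, hW⟩ := exists_affine_chart p₀ hp₀ u₀
    (closure (Set.range (Points.map j₀.hom)))ᶜ isClosed_closure.isOpen_compl hx
  have : Nonempty U.left := ⟨u⟩
  obtain ⟨n, v, hv1, hv2⟩ := exists_level_dense hX hp hs
  have hO : IsOpen (GEX ((yon S).map i ≫ p₀) (n + 1) ∩ (closure (GEX ((yon S).map i ≫ p₀) (n + 2)))ᶜ) :=
    (isOpen_GEX _ hp hs _).inter isClosed_closure.isOpen_compl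
  obtain ⟨X', j, V, i', a, hj, hr, hi', hfin, het, hsur⟩ := exists_finite_chart hp hs n _ hO Set.inter_subset_left
    (by
      refine Set.eq_empty_of_forall_notMem fun y hy => ?_
      exact hy.1.2 (subset_closure hy.2))
  have hqs : QuasiSeparatedSpace V.left := quasiSeparatedSpace_of_isOpenImmersion i'.left
  obtain ⟨X'', j', hj', hrep', hdense⟩ := h204 X' V a hfin het hsur hqs
  obtain ⟨k, hk⟩ := hmax X'' (j' ≫ j) (K620.Dec.repWith_comp hj' hj) hrep'
  -- a point of `X''`
  obtain ⟨x', -⟩ : Points.ofPt ((yon S).map i ≫ p₀) v ∈ Set.range (Points.map j.hom) := by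
    rw [hr]; exact ⟨hv1, hv2⟩
  obtain ⟨_, -, ⟨x'', rfl⟩⟩ := hdense.inter_open_nonempty Set.univ isOpen_univ ⟨x', trivial⟩
  have h1 : Points.map j.hom (Points.map j'.hom x'') ∈ Set.range (Points.ofPt ((yon S).map i ≫ p₀)) := by
    rw [← GEX_one _ hp.1]
    refine GEX_antitone _ (Nat.le_add_left 1 n) ?_
    have : Points.map j.hom (Points.map j'.hom x'') ∈ Set.range (Points.map j.hom) := ⟨_, rfl⟩
    rw [hr] at this
    exact this.1
  obtain ⟨w, hw⟩ := h1
  apply hW w
  rw [hw, ← Points.map_comp]
  refine subset_closure ⟨Points.map k.hom x'', ?_⟩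
  rw [← Points.map_comp]
  exact congrArg (fun f : X'' ⟶ X => Points.map f.hom x'') hk

end K617.DenseOpen
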