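import Groth.Agent.AlgSp.K617.IntBC2

/-!
# The essential image of the direct image along an integral universally injective morphism: sheaves
-/

set_option autoImplicit false
set_option backward.isDefEq.respectTransparency false
universe v' u' u
open CategoryTheory CategoryTheory.Limits AlgebraicGeometry Opposite
open AlgSp

namespace K617.EssImage

open K599.EtSite K617.IntBC K617.IntBC2

variable {S : Scheme.{u}} {Z X : Sp S} {i : Z ⟶ X}

theorem isEmpty_bcObj (hi : Representable i) {E : EtOver X} (h : Misses i E) :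
    IsEmpty ↥(EtOver.bcObj hi E).obj.left.left := by
  refine ⟨fun z => Set.disjoint_left.1 h ⟨Points.ofScheme _ ((EtOver.bcπ hi E).left z), rfl⟩ ?_⟩
  refine ⟨Points.ofPt (EtOver.bcObj hi E).obj.hom z, ?_⟩
  rw [← K610.Base.ofPt_comp, (EtOver.isPullback_bcObj hi E).w, K610.Base.ofPt_map_comp,
    Points.ofPt_eq_map_ofScheme]

/-- The sections over an empty scheme. -/
theorem unique_of_isEmpty {P : (EtOver Z)ᵒᵖ ⥤ Type u'} (hP : Presieve.IsSheaf (etTop Z) P) (E : EtOver Z)
    [IsEmpty ↥E.obj.left.left] : Nonempty (Unique (P.obj (op E))) := by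
  have h : (⊥ : Sieve E) ∈ etTop Z E := (mem_etTop_iff _).2 fun x => isEmptyElim x
  obtain ⟨t, -, ht⟩ := hP _ h (fun _ _ h => h.elim) (fun _ _ _ _ _ _ _ h => h.elim)
  exact ⟨⟨⟨t⟩, fun s => ht s (fun _ _ h => h.elim)⟩⟩

/-- Sheaves for the induced topology come from the site of `Z`. -/
theorem essImage_of_isSheaf (A : Type u') [Category.{v'} A] (hi : RepWith @IsIntegralHom i)
    (hu : RepWith @UniversallyInjective i) (hX : IsAlgSpace X)
    [∀ E : (EtOver Z)ᵒᵖ, HasLimitsOfShape (StructuredArrow E (EtOver.bc hi.1).op) A]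
    (G : EtSh X A)
    (hG : ∀ J' : GrothendieckTopology (EtOver X), (∀ {E : EtOver X} (R : Sieve E), R ∈ J' E →
      R.functorPushforward (EtOver.bc hi.1) ∈ etTop Z ((EtOver.bc hi.1).obj E)) → Presheaf.IsSheaf J' G.obj) :
    (pushEt hi.1 A).essImage G := by
  have h1 := isCoverDense_bc hi hu hX
  have h2 := isLocallyFull_bc hi hu
  have h3 := isLocallyFaithful_bc hi.1
  let J' := (EtOver.bc hi.1).inducedTopology (etTop Z)
  have hJ' : Presheaf.IsSheaf J' G.obj := hG J' fun R hR =>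
    (Functor.mem_inducedTopology_iff_of_isCoverDense _ _ R).1 hR
  let G' : Sheaf J' A := ⟨G.obj, hJ'⟩
  let e := Functor.IsDenseSubsite.sheafEquiv J' (etTop Z) (EtOver.bc hi.1) A
  let F : EtSh Z A := e.functor.obj G'
  let t := (sheafToPresheaf J' A).mapIso (e.unitIso.app G')
  exact ⟨F, ⟨(fullyFaithfulSheafToPresheaf (etTop X) A).preimageIso t.symm⟩⟩

theorem essImage_iff_type (hi : RepWith @IsIntegralHom i) (hu : RepWith @UniversallyInjective i)
    (hX : IsAlgSpace X) (G : EtSh X (Type (u + 1))) :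
    (pushEt hi.1 (Type (u + 1))).essImage G ↔ ∀ E : EtOver X, Misses i E → Nonempty (Unique (G.obj.obj (op E))) := by
  constructor
  · rintro ⟨F, ⟨e⟩⟩ E hE
    have := isEmpty_bcObj hi.1 hE
    obtain ⟨h⟩ := unique_of_isEmpty ((isSheaf_iff_isSheaf_of_type _ _).1 F.property) (EtOver.bcObj hi.1 E)
    have e' : F.obj.obj (op (EtOver.bcObj hi.1 E)) ≃ G.obj.obj (op E) :=
      (((sheafToPresheaf _ _).mapIso e).app (op E)).toEquiv
    exact ⟨e'.symm.unique⟩
  · intro h
    refine essImage_of_isSheaf (Type (u + 1)) hi hu hX G fun J' hJ' => ?_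
    rw [isSheaf_iff_isSheaf_of_type]
    intro E R hR
    exact isSheafFor hi hu G.obj ((isSheaf_iff_isSheaf_of_type _ _).1 G.property) h (hJ' R hR)

theorem essImage_iff_ab (hi : RepWith @IsIntegralHom i) (hu : RepWith @UniversallyInjective i)
    (hX : IsAlgSpace X) (G : AbEt X) :
    (pushEt hi.1 AddCommGrpCat.{u + 1}).essImage G ↔
      ∀ E : EtOver X, Misses i E → Subsingleton ↥(G.obj.obj (op E)) := by
  constructor
  · rintro ⟨F, ⟨e⟩⟩ E hE
    have := isEmpty_bcObj hi.1 hE
    have hF : Presieve.IsSheaf (etTop Z) (F.obj ⋙ forget AddCommGrpCat.{u + 1}) :=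
      (isSheaf_iff_isSheaf_of_type _ _).1 ((Presheaf.isSheaf_iff_isSheaf_forget _ _ _).1 F.property)
    obtain ⟨h⟩ := unique_of_isEmpty hF (EtOver.bcObj hi.1 E)
    have e' : F.obj.obj (op (EtOver.bcObj hi.1 E)) ≃ G.obj.obj (op E) :=
      (((sheafToPresheaf _ _).mapIso e).app (op E)).addCommGroupIsoToAddEquiv.toEquiv
    have h' : Subsingleton (F.obj.obj (op (EtOver.bcObj hi.1 E))) := h.instSubsingleton
    exact e'.symm.subsingleton
  · intro h
    refine essImage_of_isSheaf AddCommGrpCat.{u + 1} hi hu hX G fun J' hJ' => ?_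
    rw [Presheaf.isSheaf_iff_isSheaf_forget J' G.obj (forget AddCommGrpCat.{u + 1}), isSheaf_iff_isSheaf_of_type]
    intro E R hR
    refine isSheafFor hi hu (G.obj ⋙ forget AddCommGrpCat.{u + 1})
      ((isSheaf_iff_isSheaf_of_type _ _).1 ((Presheaf.isSheaf_iff_isSheaf_forget _ _ _).1 G.property)) ?_ (hJ' R hR)
    intro E' hE'
    have := h E' hE'
    exact ⟨⟨⟨(0 : G.obj.obj (op E'))⟩, fun a => Subsingleton.elim (α := ↥(G.obj.obj (op E'))) _ _⟩⟩

end K617.EssImage
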