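import Mathlib.AlgebraicGeometry.Morphisms.Etale
import Mathlib.AlgebraicGeometry.Morphisms.Finite
import Mathlib.AlgebraicGeometry.Morphisms.Separated
import Mathlib.AlgebraicGeometry.Morphisms.FlatDescent
import Mathlib.AlgebraicGeometry.PullbackCarrier
import Mathlib.AlgebraicGeometry.ResidueField
import Groth.Agent.Desc.MorDescent

/-!
# Counting field valued points in the fibres of an étale separated morphism

For `f : Y ⟶ T` and `n : ℕ` the set `GE f n ⊆ T` consists of the points `t` such that some field valued point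
of `T` over `t` has at least `n` lifts to `Y`.

* `mem_GE_of_isPullback` : compatibility with base change.
* `isOpen_GE` : for `f` étale and separated `GE f n` is open.
* `isFinite_of_GE` : if `f` is étale and separated, `GE f n = univ` and `GE f (n + 1) = ∅`, then `f` is finite.
-/

set_option autoImplicit false
universe u
open CategoryTheory CategoryTheory.Limits AlgebraicGeometry Opposite

namespace K617.EtFin

variable {Y T : Scheme.{u}}

/-- The points of `T` over which some field valued point has at least `n` lifts to `Y`. -/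
def GE (f : Y ⟶ T) (n : ℕ) : Set T :=
  {t | ∃ (Ω : Type u) (_ : Field Ω) (τ : Spec (CommRingCat.of Ω) ⟶ T)
      (σ : Fin n → (Spec (CommRingCat.of Ω) ⟶ Y)),
      (∀ x, τ x = t) ∧ Function.Injective σ ∧ ∀ i, σ i ≫ f = τ}

theorem Spec_field_eq {Ω : Type u} [Field Ω] (x y : Spec (CommRingCat.of Ω)) : x = y :=
  Subsingleton.elim (α := PrimeSpectrum Ω) x y

/-- The point of the spectrum of a field. -/
noncomputable def pt (Ω : Type u) [Field Ω] : Spec (CommRingCat.of Ω) := IsLocalRing.closedPoint Ω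

/-- The morphism from the spectrum of the residue field of a point. -/
noncomputable def frf (X : Scheme.{u}) (x : X) : Spec (CommRingCat.of ↑(X.residueField x)) ⟶ X :=
  X.fromSpecResidueField x

@[simp] theorem frf_apply (X : Scheme.{u}) (x : X) (z) : frf X x z = x :=
  Scheme.fromSpecResidueField_apply _ _

/-- A morphism between spectra of fields is an epimorphism. -/
theorem epi_Spec_field {Ω Ω' : Type u} [Field Ω] [Field Ω']
    (a : Spec (CommRingCat.of Ω') ⟶ Spec (CommRingCat.of Ω)) : Epi a := by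
  obtain ⟨φ, rfl⟩ := Spec.map_surjective a
  algebraize [φ.hom]
  have h1 : Flat (Spec.map φ) := by
    rw [Flat.SpecMap_iff]
    exact inferInstanceAs (Module.Flat Ω Ω')
  have h2 : Surjective (Spec.map φ) := ⟨fun x => ⟨pt Ω', Spec_field_eq _ _⟩⟩
  exact Flat.epi_of_flat_of_surjective _

/-- Two field valued points over one point of `T` are dominated by a third one. -/
theorem exists_amalg {Ω₁ Ω₂ : Type u} [Field Ω₁] [Field Ω₂] (τ₁ : Spec (CommRingCat.of Ω₁) ⟶ T)
    (τ₂ : Spec (CommRingCat.of Ω₂) ⟶ T) (h : τ₁ (pt Ω₁) = τ₂ (pt Ω₂)) :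
    ∃ (Ω : Type u) (_ : Field Ω) (a : Spec (CommRingCat.of Ω) ⟶ Spec (CommRingCat.of Ω₁))
      (b : Spec (CommRingCat.of Ω) ⟶ Spec (CommRingCat.of Ω₂)), a ≫ τ₁ = b ≫ τ₂ := by
  obtain ⟨z, -, -⟩ := Scheme.Pullback.exists_preimage_pullback (f := τ₁) (g := τ₂)
    (pt Ω₁) (pt Ω₂) h
  refine ⟨(pullback τ₁ τ₂).residueField z, inferInstance,
    frf (pullback τ₁ τ₂) z ≫ pullback.fst τ₁ τ₂,
    frf (pullback τ₁ τ₂) z ≫ pullback.snd τ₁ τ₂, ?_⟩
  rw [Category.assoc, Category.assoc, pullback.condition]

theorem mem_GE_zero (f : Y ⟶ T) (t : T) : t ∈ GE f 0 :=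
  ⟨T.residueField t, inferInstance, frf T t, fun i => i.elim0,
    frf_apply _ _, fun i => i.elim0, fun i => i.elim0⟩

theorem GE_zero (f : Y ⟶ T) : GE f 0 = Set.univ := Set.eq_univ_of_forall (mem_GE_zero f)

theorem GE_antitone (f : Y ⟶ T) {m n : ℕ} (h : m ≤ n) : GE f n ⊆ GE f m := by
  rintro t ⟨Ω, _, τ, σ, ht, hσ, hf⟩
  exact ⟨Ω, inferInstance, τ, fun i => σ (Fin.castLE h i), ht, hσ.comp (Fin.castLE_injective h), fun i => hf _⟩

/-- The definition of `GE` after enlarging the field to receive a given field valued point. -/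
theorem exists_of_mem_GE {f : Y ⟶ T} {n : ℕ} {t : T} (ht : t ∈ GE f n) {K : Type u} [Field K]
    (κ : Spec (CommRingCat.of K) ⟶ T) (hκ : κ (pt K) = t) :
    ∃ (Ω : Type u) (_ : Field Ω) (b : Spec (CommRingCat.of Ω) ⟶ Spec (CommRingCat.of K))
      (σ : Fin n → (Spec (CommRingCat.of Ω) ⟶ Y)), Function.Injective σ ∧ ∀ i, σ i ≫ f = b ≫ κ := by
  obtain ⟨Ω₁, _, τ, σ, ht, hσ, hf⟩ := ht
  obtain ⟨Ω, _, a, b, hab⟩ := exists_amalg τ κ ((ht _).trans hκ.symm)
  have := epi_Spec_field a
  refine ⟨Ω, inferInstance, b, fun i => a ≫ σ i, fun i j hij => hσ ?_, fun i => ?_⟩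
  · exact (cancel_epi a).1 hij
  · rw [Category.assoc, hf, hab]

theorem mem_GE_of_isPullback {Y' T' : Scheme.{u}} {f : Y ⟶ T} {f' : Y' ⟶ T'} {g : T' ⟶ T} {g' : Y' ⟶ Y}
    (sq : IsPullback g' f' f g) (n : ℕ) (t' : T') : t' ∈ GE f' n ↔ g t' ∈ GE f n := by
  constructor
  · rintro ⟨Ω, _, τ, σ, ht, hσ, hf⟩
    refine ⟨Ω, inferInstance, τ ≫ g, fun i => σ i ≫ g', fun x => ?_, fun i j hij => hσ ?_, fun i => ?_⟩
    · rw [Scheme.Hom.comp_apply, ht]
    · exact sq.hom_ext hij (by rw [hf, hf])
    · rw [Category.assoc, sq.w, ← Category.assoc, hf]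
  · intro h
    obtain ⟨Ω, _, b, σ, hσ, hf⟩ := exists_of_mem_GE h (frf T' t' ≫ g) (by
      rw [Scheme.Hom.comp_apply, frf_apply])
    refine ⟨Ω, inferInstance, b ≫ frf T' t',
      fun i => sq.lift (σ i) (b ≫ frf T' t') (by rw [hf, Category.assoc]), fun x => ?_, ?_, fun i => ?_⟩
    · rw [Scheme.Hom.comp_apply, frf_apply]
    · intro i j hij
      apply hσ
      have := congrArg (· ≫ g') hij
      simpa using this
    · exact sq.lift_snd _ _ _

theorem mem_GE_one_iff (f : Y ⟶ T) (t : T) : t ∈ GE f 1 ↔ t ∈ Set.range f := by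
  constructor
  · rintro ⟨Ω, _, τ, σ, ht, hσ, hf⟩
    exact ⟨σ 0 (pt Ω), by rw [← Scheme.Hom.comp_apply, hf, ht]⟩
  · rintro ⟨y, rfl⟩
    refine ⟨Y.residueField y, inferInstance, frf Y y ≫ f,
      fun _ => frf Y y, fun x => ?_, fun i j _ => Subsingleton.elim _ _, fun _ => rfl⟩
    rw [Scheme.Hom.comp_apply, frf_apply]

section OffDiag

variable (f : Y ⟶ T) [IsSeparated f]

/-- The complement of the diagonal of a separated morphism. -/
noncomputable def offDiag : (pullback f f).Opens :=
  ⟨(Set.range (pullback.diagonal f))ᶜ, (pullback.diagonal f).isClosedEmbedding.isClosed_range.isOpen_compl⟩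

theorem mem_offDiag (z : ↑(pullback f f)) : z ∈ offDiag f ↔ z ∉ Set.range (pullback.diagonal f) := Iff.rfl

/-- The second projection of the complement of the diagonal. -/
noncomputable def offSnd : (offDiag f : Scheme.{u}) ⟶ Y := (offDiag f).ι ≫ pullback.snd f f

instance : IsSeparated (offSnd f) := by
  unfold offSnd
  infer_instance

instance [Etale f] : Etale (offSnd f) := by
  unfold offSnd
  infer_instance

/-- A field valued point with distinct components lies off the diagonal. -/
theorem lift_mem_offDiag [Etale f] {Ω : Type u} [Field Ω] (a b : Spec (CommRingCat.of Ω) ⟶ Y)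
    (hab : a ≠ b) (h : a ≫ f = b ≫ f) (x : Spec (CommRingCat.of Ω)) :
    pullback.lift a b h x ∈ offDiag f := by
  rw [mem_offDiag]
  intro hx
  apply hab
  have hr : Set.range (pullback.lift a b h) ⊆ Set.range (pullback.diagonal f) := by
    rintro _ ⟨y, rfl⟩
    rw [Spec_field_eq y x]
    exact hx
  have h1 := IsOpenImmersion.lift_fac (pullback.diagonal f) (pullback.lift a b h) hr
  have h2 := congrArg (· ≫ pullback.fst f f) h1
  have h3 := congrArg (· ≫ pullback.snd f f) h1
  simp only [Category.assoc, pullback.diagonal_fst, pullback.diagonal_snd, pullback.lift_fst,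
    pullback.lift_snd, Category.comp_id] at h2 h3
  exact h2.symm.trans h3

theorem mem_GE_offSnd_iff [Etale f] (n : ℕ) (y : Y) : y ∈ GE (offSnd f) n ↔ f y ∈ GE f (n + 1) := by
  constructor
  · rintro ⟨Ω, _, υ, σ, ht, hσ, hf⟩
    have hf' : ∀ i, (σ i ≫ (offDiag f).ι) ≫ pullback.snd f f = υ := fun i => by
      rw [Category.assoc]; exact hf i
    refine ⟨Ω, inferInstance, υ ≫ f,
      Fin.cons υ (fun i => (σ i ≫ (offDiag f).ι) ≫ pullback.fst f f), fun x => ?_, ?_, ?_⟩
    · rw [Scheme.Hom.comp_apply, ht]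
    · rw [Fin.cons_injective_iff]
      constructor
      · rintro ⟨i, hi⟩
        have h1 : σ i ≫ (offDiag f).ι = υ ≫ pullback.diagonal f := by
          apply pullback.hom_ext
          · rw [Category.assoc υ, pullback.diagonal_fst, Category.comp_id]
            exact hi
          · rw [Category.assoc υ, pullback.diagonal_snd, Category.comp_id, hf']
        have h2 : (σ i ≫ (offDiag f).ι) (pt Ω) ∈ offDiag f := by
          rw [Scheme.Hom.comp_apply]
          exact (σ i (pt Ω)).2
        rw [h1, Scheme.Hom.comp_apply, mem_offDiag] at h2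
        exact h2 ⟨_, rfl⟩
      · intro i j hij
        apply hσ
        rw [← cancel_mono (offDiag f).ι]
        apply pullback.hom_ext
        · exact hij
        · rw [hf', hf']
    · intro i
      refine Fin.cases rfl (fun i => ?_) i
      rw [Fin.cons_succ, Category.assoc, pullback.condition, ← Category.assoc, hf']
  · intro h
    obtain ⟨Ω, _, b, σ, hσ, hf⟩ := exists_of_mem_GE h (frf Y y ≫ f) (by
      rw [Scheme.Hom.comp_apply, frf_apply])
    obtain ⟨i₀, hi₀⟩ : ∃ i₀, ∀ i, i ≠ i₀ → σ i ≠ b ≫ frf Y y := by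
      by_cases h : ∃ i₀, σ i₀ = b ≫ frf Y y
      · obtain ⟨i₀, hi₀⟩ := h
        exact ⟨i₀, fun i hi h => hi (hσ (h.trans hi₀.symm))⟩
      · exact ⟨0, fun i _ h' => h ⟨i, h'⟩⟩
    have hc : ∀ i, σ i ≫ f = (b ≫ frf Y y) ≫ f := fun i => by
      rw [hf, Category.assoc]
    have hmem : ∀ (i : Fin n) (x), pullback.lift (σ (i₀.succAbove i)) (b ≫ frf Y y) (hc _) x ∈
        offDiag f := fun i x => lift_mem_offDiag f _ _ (hi₀ _ (Fin.succAbove_ne _ _)) (hc _) x
    have hr : ∀ i : Fin n, Set.range
        (pullback.lift (σ (i₀.succAbove i)) (b ≫ frf Y y) (hc _)) ⊆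
        Set.range (offDiag f).ι := by
      rintro i _ ⟨x, rfl⟩
      rw [Scheme.Opens.range_ι]
      exact hmem i x
    refine ⟨Ω, inferInstance, b ≫ frf Y y,
      fun i => IsOpenImmersion.lift (offDiag f).ι
        (pullback.lift (σ (i₀.succAbove i)) (b ≫ frf Y y) (hc _)) (hr i), fun x => ?_, ?_, ?_⟩
    · rw [Scheme.Hom.comp_apply, frf_apply]
    · intro i j hij
      have := congrArg (fun x => (x ≫ (offDiag f).ι) ≫ pullback.fst f f) hij
      simp only [IsOpenImmersion.lift_fac, pullback.lift_fst] at this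
      exact Fin.succAbove_right_injective (hσ this)
    · intro i
      rw [offSnd, ← Category.assoc, IsOpenImmersion.lift_fac, pullback.lift_snd]

theorem GE_succ_eq_image [Etale f] (n : ℕ) : GE f (n + 1) = f '' GE (offSnd f) n := by
  ext t
  constructor
  · intro h
    obtain ⟨y, rfl⟩ := (mem_GE_one_iff f t).1 (GE_antitone f (Nat.le_add_left 1 n) h)
    exact ⟨y, (mem_GE_offSnd_iff f n y).2 h, rfl⟩
  · rintro ⟨y, hy, rfl⟩
    exact (mem_GE_offSnd_iff f n y).1 hy

end OffDiag

/-- The locus of points with at least `n` geometric points in the fibre of an étale separated morphism is open. -/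
theorem isOpen_GE (n : ℕ) : ∀ {Y T : Scheme.{u}} (f : Y ⟶ T) [Etale f] [IsSeparated f], IsOpen (GE f n) := by
  induction n with
  | zero => intro Y T f _ _; rw [GE_zero]; exact isOpen_univ
  | succ n ih =>
    intro Y T f _ _
    rw [GE_succ_eq_image]
    exact f.isOpenMap _ (ih (offSnd f))

set_option backward.isDefEq.respectTransparency.types false in
theorem isFinite_snd_of_offSnd (f : Y ⟶ T) [Etale f] [IsSeparated f] [IsFinite (offSnd f)] :
    IsFinite (pullback.snd f f) := by
  have hc : IsCompl (offDiag f).ι.opensRange (pullback.diagonal f).opensRange := by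
    rw [Scheme.Opens.opensRange_ι]
    constructor
    · rw [disjoint_iff]
      ext x
      simp only [TopologicalSpace.Opens.coe_inf, Set.mem_inter_iff, TopologicalSpace.Opens.coe_bot,
        Set.mem_empty_iff_false, iff_false, not_and, SetLike.mem_coe]
      exact fun h h' => h h'
    · rw [codisjoint_iff]
      ext x
      simp only [TopologicalSpace.Opens.coe_sup, Set.mem_union, TopologicalSpace.Opens.coe_top,
        Set.mem_univ, iff_true, SetLike.mem_coe]
      exact (em _).symm
  obtain ⟨h⟩ := nonempty_isColimit_binaryCofanMk_of_isCompl (offDiag f).ι (pullback.diagonal f) hc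
  let e : ((offDiag f : Scheme.{u}) ⨿ Y) ≅ pullback f f :=
    (coprodIsCoprod (offDiag f : Scheme.{u}) Y).coconePointUniqueUpToIso h
  have e1 : coprod.inl ≫ e.hom = (offDiag f).ι :=
    (coprodIsCoprod (offDiag f : Scheme.{u}) Y).comp_coconePointUniqueUpToIso_hom h ⟨WalkingPair.left⟩
  have e2 : coprod.inr ≫ e.hom = pullback.diagonal f :=
    (coprodIsCoprod (offDiag f : Scheme.{u}) Y).comp_coconePointUniqueUpToIso_hom h ⟨WalkingPair.right⟩
  have he : e.hom ≫ pullback.snd f f = coprod.desc (offSnd f) (𝟙 Y) := by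
    apply coprod.hom_ext
    · rw [coprod.inl_desc, ← Category.assoc, e1]; rfl
    · rw [coprod.inr_desc, ← Category.assoc, e2, pullback.diagonal_snd]
  have h2 : IsFinite (e.hom ≫ pullback.snd f f) := by
    rw [he]
    have : IsFinite (𝟙 Y) := inferInstance
    infer_instance
  exact (MorphismProperty.cancel_left_of_respectsIso (@IsFinite : MorphismProperty Scheme.{u}) e.hom
    (pullback.snd f f)).1 h2

set_option backward.isDefEq.respectTransparency.types false in
/-- An étale separated morphism all of whose geometric fibres have exactly `n` points is finite. -/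
theorem isFinite_of_GE (n : ℕ) : ∀ {Y T : Scheme.{u}} (f : Y ⟶ T) [Etale f] [IsSeparated f],
    GE f n = Set.univ → GE f (n + 1) = ∅ → IsFinite f := by
  induction n with
  | zero =>
    intro Y T f _ _ _ h
    have : IsEmpty Y := ⟨fun y => by
      have : f y ∈ GE f (0 + 1) := (mem_GE_one_iff f _).2 ⟨y, rfl⟩
      rw [h] at this
      exact this⟩
    infer_instance
  | succ n ih =>
    intro Y T f _ _ h1 h2
    have hs : Surjective f := ⟨fun t => (mem_GE_one_iff f t).1
      (GE_antitone f (Nat.le_add_left 1 n) (h1 ▸ Set.mem_univ t))⟩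
    have h3 : IsFinite (offSnd f) := by
      refine ih (offSnd f) (Set.eq_univ_of_forall fun y => ?_) (Set.eq_empty_of_forall_notMem fun y hy => ?_)
      · rw [mem_GE_offSnd_iff, h1]; exact Set.mem_univ _
      · rw [mem_GE_offSnd_iff, h2] at hy; exact hy
    have h4 := isFinite_snd_of_offSnd f
    have := Groth.Agent.Desc.MorDescent.descendsAlong_isFinite.{u}
    refine MorphismProperty.of_pullback_snd_of_descendsAlong (P := @IsFinite)
      (Q := @Surjective ⊓ @Flat ⊓ @LocallyOfFinitePresentation) (f := f) (g := f)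
      ⟨⟨hs, inferInstance⟩, inferInstance⟩ h4

end K617.EtFin
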