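import Groth.Agent.AlgSp.K617.EtFin
import Mathlib.AlgebraicGeometry.Morphisms.QuasiFinite
import Mathlib.AlgebraicGeometry.Morphisms.Smooth
import Mathlib.RingTheory.Unramified.LocalStructure
import Mathlib.FieldTheory.Fixed
import Mathlib.Topology.Spectral.ConstructibleTopology

/-!
# Bounded fibres over a field, Baire property of spectral spaces
-/

set_option autoImplicit false
universe u
open CategoryTheory CategoryTheory.Limits AlgebraicGeometry Opposite

namespace K617.EtFin

theorem GE_eq_empty_of_finite_ring {k A : Type u} [Field k] [CommRing A] [Algebra k A] [Module.Finite k A] :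
    GE (Spec.map (CommRingCat.ofHom (algebraMap k A))) (Module.finrank k A + 1) = ∅ := by
  refine Set.eq_empty_of_forall_notMem ?_
  rintro t ⟨Ω, _, τ, σ, -, hσ, hf⟩
  obtain ⟨ψ, rfl⟩ := Spec.map_surjective τ
  choose s hs using fun i => Spec.map_surjective (σ i)
  let _ : Algebra k Ω := ψ.hom.toAlgebra
  have hs' : ∀ i, (s i).hom.comp (algebraMap k A) = ψ.hom := fun i => by
    have h1 := hf i
    rw [← hs i, ← Spec.map_comp] at h1
    have h2 := Spec.map_injective h1
    have h3 := congrArg CommRingCat.Hom.hom h2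
    exact h3
  let g : ULift.{u} (Fin (Module.finrank k A + 1)) → (A →ₐ[k] Ω) := fun i =>
    { (s i.down).hom with commutes' := fun r => DFunLike.congr_fun (hs' i.down) r }
  have hg : Function.Injective g := by
    intro i j hij
    apply ULift.down_injective
    apply hσ
    rw [← hs i.down, ← hs j.down]
    congr 1
    apply CommRingCat.hom_ext
    exact congrArg (fun h : A →ₐ[k] Ω => (h : A →+* Ω)) hij
  have h1 := cardinalMk_algHom k A Ω
  rw [Module.finrank_linearMap_self] at h1
  have h2 := Cardinal.mk_le_of_injective hg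
  rw [Cardinal.mk_uLift, Cardinal.mk_fin, Cardinal.lift_natCast] at h2
  have h3 := h2.trans h1
  have h4 : Module.finrank k A + 1 ≤ Module.finrank k A := by exact_mod_cast h3
  omega

theorem GE_congr {Y T Y' : Scheme.{u}} (f : Y ⟶ T) (e : Y' ≅ Y) (n : ℕ) : GE (e.hom ≫ f) n = GE f n := by
  ext t
  have := mem_GE_of_isPullback (f := f) (f' := e.hom ≫ f) (g := 𝟙 T) (g' := e.hom)
    (IsPullback.of_horiz_isIso ⟨by simp⟩) n t
  simpa using this

set_option backward.isDefEq.respectTransparency.types false in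
theorem GE_eq_empty_of_isFinite {k : Type u} [Field k] {V : Scheme.{u}} (f : V ⟶ Spec (CommRingCat.of k))
    [IsFinite f] : ∃ n, GE f n = ∅ := by
  have hV : IsAffine V := isAffine_of_isAffineHom f
  have h1 := GE_congr f V.isoSpec.symm
  have h2 : IsFinite (V.isoSpec.symm.hom ≫ f) := inferInstance
  obtain ⟨φ, hφ⟩ := Spec.map_surjective (V.isoSpec.symm.hom ≫ f)
  rw [← hφ, IsFinite.SpecMap_iff] at h2
  algebraize [φ.hom]
  have h3 : GE (Spec.map φ) (Module.finrank k Γ(V, ⊤) + 1) = ∅ :=
    GE_eq_empty_of_finite_ring (k := k) (A := Γ(V, ⊤))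
  exact ⟨_, by rw [← h1, ← hφ, h3]⟩

/-- étale morphisms are locally quasi-finite -/
theorem locallyQuasiFinite_of_etale {U X : Scheme.{u}} (u : U ⟶ X) [Etale u] :
    LocallyQuasiFinite u := by
  rw [HasRingHomProperty.iff_appLE (P := @LocallyQuasiFinite)]
  intro V W e
  have h := HasRingHomProperty.appLE (P := @Etale) u ‹_› V W e
  algebraize [(u.appLE V W e).hom]
  have : Algebra.FormallyUnramified Γ(X, V) Γ(U, W) := inferInstance
  have : Algebra.EssFiniteType Γ(X, V) Γ(U, W) := inferInstance
  have : Algebra.QuasiFinite Γ(X, V) Γ(U, W) := inferInstance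
  exact this

/-- Étale schemes of finite type over a field have a bounded number of geometric points. -/
theorem GE_eq_empty_of_compactSpace {k : Type u} [Field k] {V : Scheme.{u}} (f : V ⟶ Spec (CommRingCat.of k))
    [Etale f] [CompactSpace V] : ∃ n, GE f n = ∅ := by
  have h0 : QuasiCompact f := (quasiCompact_iff_compactSpace f).2 inferInstance
  have h1 : LocallyQuasiFinite f := locallyQuasiFinite_of_etale f
  have h2 : IsFinite f := IsFinite.of_locallyQuasiFinite f
  exact GE_eq_empty_of_isFinite f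

open Topology in
/-- Baire property: in a closed subset of a spectral space a countable intersection of dense opens is nonempty. -/
theorem exists_mem_of_dense_opens {X : Type*} [TopologicalSpace X] [CompactSpace X] [QuasiSober X]
    [PrespectralSpace X] [QuasiSeparatedSpace X] {C : Set X} (hC : IsClosed C) (hne : C.Nonempty)
    (O : ℕ → Set X) (hO : ∀ n, IsOpen (O n))
    (hd : ∀ n (W : Set X), IsOpen W → (W ∩ C).Nonempty → (W ∩ C ∩ O n).Nonempty) :
    ∃ x ∈ C, ∀ n, x ∈ O n := by
  classical
  -- decreasing sequence of compact opens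
  have step : ∀ (n : ℕ) (W : Set X), IsOpen W → (W ∩ C).Nonempty →
      ∃ W' : Set X, IsOpen W' ∧ IsCompact W' ∧ (W' ∩ C).Nonempty ∧ W' ⊆ W ∩ O n := by
    intro n W hW hWC
    obtain ⟨x, ⟨hxW, hxC⟩, hxO⟩ := hd n W hW hWC
    obtain ⟨W', ⟨hW'1, hW'2⟩, hxW', hW'⟩ :=
      (PrespectralSpace.isTopologicalBasis (X := X)).exists_subset_of_mem_open (show x ∈ W ∩ O n from ⟨hxW, hxO⟩)
        (hW.inter (hO n))
    exact ⟨W', hW'1, hW'2, ⟨x, hxW', hxC⟩, hW'⟩
  let Q := {W : Set X // IsOpen W ∧ IsCompact W ∧ (W ∩ C).Nonempty}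
  have step' : ∀ (n : ℕ) (W : Q), ∃ W' : Q, W'.1 ⊆ W.1 ∩ O n := fun n W => by
    obtain ⟨W', h1, h2, h3, h4⟩ := step n W.1 W.2.1 W.2.2.2
    exact ⟨⟨W', h1, h2, h3⟩, h4⟩
  choose nxt hnxt using step'
  let seq : ℕ → Q := fun n => Nat.rec ⟨Set.univ, isOpen_univ, isCompact_univ, by simpa using hne⟩
    (fun n W => nxt n W) n
  have hseq : ∀ n, (seq (n + 1)).1 ⊆ (seq n).1 ∩ O n := fun n => hnxt n (seq n)
  let K : ℕ → Set (WithConstructibleTopology X) := fun n =>
    (WithTopology.ofTopology (t := constructibleTopology X)) ⁻¹' ((seq n).1 ∩ C)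
  have hcl : IsClosed[constructibleTopology X] C := by
    rw [← @isOpen_compl_iff _ _ (constructibleTopology X)]
    have h1 : Cᶜ = ⋃₀ {s : Set X | (IsOpen s ∧ IsCompact s) ∧ s ⊆ Cᶜ} :=
      (PrespectralSpace.isTopologicalBasis (X := X)).open_eq_sUnion' hC.isOpen_compl
    rw [h1]
    exact @isOpen_sUnion _ (constructibleTopology X) _
      (fun s hs => hs.1.2.isOpen_constructibleTopology_of_isOpen hs.1.1)
  have hK : ∀ n, IsClosed (K n) := by
    intro n
    rw [WithConstructibleTopology.isClosed_iff]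
    change IsClosed[constructibleTopology X] ((seq n).1 ∩ C)
    refine @IsClosed.inter _ _ _ (constructibleTopology X) ?_ hcl
    rw [← @isOpen_compl_iff _ _ (constructibleTopology X)]
    exact IsCompact.isOpen_constructibleTopology_of_isClosed (by rw [compl_compl]; exact (seq n).2.2.1)
      (seq n).2.1.isClosed_compl
  have hKne : ∀ n, (K n).Nonempty := fun n => by
    obtain ⟨x, hx⟩ := (seq n).2.2.2
    exact ⟨WithTopology.toTopology _ x, hx⟩
  have hanti : ∀ n, K (n + 1) ⊆ K n := fun n x hx => ⟨(hseq n hx.1).1, hx.2⟩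
  obtain ⟨x, hx⟩ := IsCompact.nonempty_iInter_of_sequence_nonempty_isCompact_isClosed K hanti hKne
    (hK 0).isCompact hK
  rw [Set.mem_iInter] at hx
  exact ⟨WithTopology.ofTopology x, (hx 0).2, fun n => (hseq n (hx (n + 1)).1).2⟩

end K617.EtFin
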