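import Mathlib.RingTheory.Smooth.IntegralClosure
import Mathlib.RingTheory.Etale.Basic
import Groth.Agent.Etbase.FFExact
import Groth.Agent.AlgSp.K644.Site

/-!
# Integral closures under smooth base change and descent of integrality, for `IsBC`
-/

set_option autoImplicit false
universe u
open TensorProduct

namespace K617.IntAlg

/-- Integral closures commute with smooth base change, for given models of the integral closures. -/
theorem isBaseChange_of_integral {R S B B' C C' : Type*} [CommRing R] [CommRing S] [CommRing B] [CommRing B']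
    [CommRing C] [CommRing C'] [Algebra R S] [Algebra R B] [Algebra S B'] [Algebra R B'] [IsScalarTower R S B']
    [Algebra R C] [Algebra S C'] [Algebra R C'] [IsScalarTower R S C'] [Algebra.Smooth R S]
    (ψ : B →ₐ[R] B') (hψ : IsBaseChange S ψ.toLinearMap) (ι : C →ₐ[R] B) (hι : Function.Injective ι)
    (hι' : ∀ x, IsIntegral R x → x ∈ Set.range ι) (κ : C' →ₐ[S] B')
    (hκ : Function.Injective κ) (hκ' : ∀ c, IsIntegral S (κ c)) (θ : C →ₐ[R] C') (hθ : ∀ c, κ (θ c) = ψ (ι c)) :
    IsBaseChange S θ.toLinearMap := by
  have : Module.Flat R S := inferInstance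
  let Ψ : S ⊗[R] B →ₐ[S] B' := Algebra.TensorProduct.lift (Algebra.ofId S B') ψ (fun _ _ => Commute.all _ _)
  have hΨ : ∀ t, Ψ t = hψ.equiv t := by
    intro t
    induction t with
    | zero => rw [map_zero, map_zero]
    | tmul s b =>
      rw [hψ.equiv_tmul, Algebra.TensorProduct.lift_tmul, Algebra.smul_def]
      rfl
    | add x y hx hy => rw [map_add, map_add, hx, hy]
  have hΨb : Function.Bijective Ψ := by
    have : (Ψ : S ⊗[R] B → B') = hψ.equiv := funext hΨ
    rw [this]
    exact hψ.equiv.bijective
  let e : S ⊗[R] B ≃ₐ[S] B' := AlgEquiv.ofBijective Ψ hΨb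
  let L : S ⊗[R] C →ₐ[S] C' := Algebra.TensorProduct.lift (Algebra.ofId S C') θ (fun _ _ => Commute.all _ _)
  let I : S ⊗[R] C →ₐ[S] S ⊗[R] B := Algebra.TensorProduct.map (AlgHom.id S S) ι
  have hI : Function.Injective I := Module.Flat.lTensor_preserves_injective_linearMap ι.toLinearMap hι
  have hc : ∀ t, κ (L t) = e (I t) := by
    intro t
    have : κ.comp L = (e : S ⊗[R] B →ₐ[S] B').comp I := by
      ext c
      simp [L, I, e, Ψ, hθ]
    exact DFunLike.congr_fun this t
  have hLb : Function.Bijective L := by
    constructor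
    · intro a b hab
      apply hI
      apply e.injective
      rw [← hc, ← hc, hab]
    · intro c'
      have h1 : IsIntegral S (e.symm (κ c')) := (hκ' c').map e.symm
      obtain ⟨t, ht⟩ := (TensorProduct.toIntegralClosure_bijective_of_smooth (R := R) (S := S) (B := B)).2
        ⟨_, h1⟩
      let ρ : C ≃ₐ[R] ι.range := AlgEquiv.ofInjective ι hι
      have hle : integralClosure R B ≤ ι.range := fun x hx => hι' x hx
      let σ : integralClosure R B →ₐ[R] C := (ρ.symm : ι.range →ₐ[R] C).comp (Subalgebra.inclusion hle)
      have hσ : ∀ x, ι (σ x) = x := by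
        intro x
        have := congrArg Subtype.val (ρ.apply_symm_apply (Subalgebra.inclusion hle x))
        exact this
      refine ⟨Algebra.TensorProduct.map (AlgHom.id S S) σ t, hκ ?_⟩
      rw [hc]
      have h2 : I (Algebra.TensorProduct.map (AlgHom.id S S) σ t) =
          (TensorProduct.toIntegralClosure R S B t : S ⊗[R] B) := by
        have : I.comp (Algebra.TensorProduct.map (AlgHom.id S S) σ) =
            (integralClosure S (S ⊗[R] B)).val.comp (TensorProduct.toIntegralClosure R S B) := by
          ext x
          simp [I, hσ, TensorProduct.toIntegralClosure]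
        exact DFunLike.congr_fun this t
      rw [h2, ht]
      exact e.apply_symm_apply _
  refine IsBaseChange.of_equiv (AlgEquiv.ofBijective L hLb).toLinearEquiv ?_
  intro x
  change L (1 ⊗ₜ x) = _
  simp [L]

end K617.IntAlg
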