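import Groth.Agent.AlgSp.K617.IntAlg
import Mathlib.RingTheory.RingHom.Smooth
import Mathlib.RingTheory.IntegralClosure.IsIntegral.Basic

/-!
# Integral elements and `IsBC`: base change and descent
-/

set_option autoImplicit false
universe u
open TensorProduct Polynomial

namespace K617.IntAlg

open Groth.Agent.Etbase.FFExact K644.Site

/-- The elements integral over a ring, for given models of them, commute with smooth base change. -/
theorem isBC_of_integral {R S B B' C C' : Type*} [CommRing R] [CommRing S] [CommRing B] [CommRing B']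
    [CommRing C] [CommRing C'] (φ : R →+* S) (hφ : φ.Smooth) (α : R →+* B) (β : S →+* B') (ψ : B →+* B')
    (γ : R →+* C) (δ : S →+* C') (θ : C →+* C') (ι : C →+* B) (κ : C' →+* B')
    [Module R B] [Module S B'] [Module R C] [Module S C']
    (hα : ∀ (r : R) (b : B), r • b = α r * b) (hβ : ∀ (s : S) (b : B'), s • b = β s * b)
    (hγ : ∀ (r : R) (b : C), r • b = γ r * b) (hδ : ∀ (s : S) (b : C'), s • b = δ s * b)
    (hψα : ∀ r, ψ (α r) = β (φ r)) (hιγ : ∀ r, ι (γ r) = α r) (hκδ : ∀ s, κ (δ s) = β s)
    (hκθ : ∀ c, κ (θ c) = ψ (ι c)) (hι : Function.Injective ι) (hκ : Function.Injective κ)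
    (hι' : ∀ b, α.IsIntegralElem b → b ∈ Set.range ι) (hκ' : ∀ c, β.IsIntegralElem (κ c))
    (h : IsBC φ (ψ : B →+ B')) : IsBC φ (θ : C →+ C') := by
  have hθγ : ∀ r, θ (γ r) = δ (φ r) := by
    intro r
    apply hκ
    rw [hκθ, hιγ, hψα, hκδ]
  let _ : Algebra R S := φ.toAlgebra
  let _ : Algebra R B := { ‹Module R B› with
    algebraMap := α
    commutes' := fun r x => mul_comm _ _
    smul_def' := hα }
  let _ : Algebra S B' := { ‹Module S B'› with
    algebraMap := β
    commutes' := fun r x => mul_comm _ _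
    smul_def' := hβ }
  let _ : Algebra R C := { ‹Module R C› with
    algebraMap := γ
    commutes' := fun r x => mul_comm _ _
    smul_def' := hγ }
  let _ : Algebra S C' := { ‹Module S C'› with
    algebraMap := δ
    commutes' := fun r x => mul_comm _ _
    smul_def' := hδ }
  let mB' : Module R B' := Module.compHom B' φ
  let mC' : Module R C' := Module.compHom C' φ
  let _ : Algebra R B' := { mB' with
    algebraMap := β.comp φ
    commutes' := fun r x => mul_comm _ _
    smul_def' := fun r x => hβ (φ r) x }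
  let _ : Algebra R C' := { mC' with
    algebraMap := δ.comp φ
    commutes' := fun r x => mul_comm _ _
    smul_def' := fun r x => hδ (φ r) x }
  have : IsScalarTower R S B' := IsScalarTower.of_algebraMap_eq' rfl
  have : IsScalarTower R S C' := IsScalarTower.of_algebraMap_eq' rfl
  have : Algebra.Smooth R S := hφ
  obtain ⟨h1, h2⟩ := h
  have h3 : ∀ (r : R) (c : C), (θ : C →+ C') (r • c) = φ r • (θ : C →+ C') c := by
    intro r c
    change θ (r • c) = φ r • θ c
    rw [hγ, hδ, map_mul, hθγ]
  refine ⟨h3, ?_⟩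
  let ψ' : B →ₐ[R] B' := { ψ with commutes' := hψα }
  let θ' : C →ₐ[R] C' := { θ with commutes' := hθγ }
  let ι' : C →ₐ[R] B := { ι with commutes' := hιγ }
  let κ' : C' →ₐ[S] B' := { κ with commutes' := hκδ }
  exact isBaseChange_of_integral (R := R) (S := S) ψ' h2 ι' hι hι' κ' hκ hκ' θ' hκθ

/-- The base change of a finite free module. -/
theorem isBC_pi {R S : Type*} [CommRing R] [CommRing S] (φ : R →+* S) (n : ℕ) :
    IsBC φ (AddMonoidHom.mk' (fun (a : Fin n → R) (i : Fin n) => φ (a i))
      (fun _ _ => funext fun _ => map_add _ _ _)) := by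
  let _ : Algebra R S := φ.toAlgebra
  refine ⟨fun a m => funext fun i => by
    change φ (a * m i) = φ a * φ (m i)
    exact map_mul _ _ _, ?_⟩
  have := (IsBaseChange.linearMap R S).finitePow (Fin n)
  exact this

/-- Integrality descends along faithfully flat ring maps. -/
theorem isIntegralElem_of_ff {R S B B' : Type*} [CommRing R] [CommRing S] [CommRing B] [CommRing B']
    (φ : R →+* S) (hφ : φ.FaithfullyFlat) (α : R →+* B) (β : S →+* B') (ψ : B →+* B')
    [Module R B] [Module S B'] (hα : ∀ (r : R) (b : B), r • b = α r * b)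
    (hβ : ∀ (s : S) (b : B'), s • b = β s * b) (hψα : ∀ r, ψ (α r) = β (φ r))
    (h : IsBC φ (ψ : B →+ B')) (x : B) (hx : β.IsIntegralElem (ψ x)) : α.IsIntegralElem x := by
  obtain ⟨p, hp, hpx⟩ := hx
  let n := p.natDegree
  have key := IsBC.exact φ hφ
    (d := { toFun := fun a : Fin n → R => ∑ i, α (a i) * x ^ (i : ℕ)
            map_add' := fun a b => by
              simp [add_mul, Finset.sum_add_distrib]
            map_smul' := fun r a => by
              rw [RingHom.id_apply, hα, Finset.mul_sum]
              refine Finset.sum_congr rfl fun i _ => ?_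
              rw [Pi.smul_apply, smul_eq_mul, map_mul, mul_assoc] })
    (d' := { toFun := fun a : Fin n → S => ∑ i, β (a i) * ψ x ^ (i : ℕ)
             map_add' := fun a b => by
              simp [add_mul, Finset.sum_add_distrib]
             map_smul' := fun r a => by
              rw [RingHom.id_apply, hβ, Finset.mul_sum]
              refine Finset.sum_congr rfl fun i _ => ?_
              rw [Pi.smul_apply, smul_eq_mul, map_mul, mul_assoc] })
    _ _ (isBC_pi φ n) h (fun m => by
      change ψ (∑ i, α (m i) * x ^ (i : ℕ)) = ∑ i, β (φ (m i)) * ψ x ^ (i : ℕ)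
      rw [map_sum]
      refine Finset.sum_congr rfl fun i _ => ?_
      rw [map_mul, map_pow, hψα]) (x ^ n) ⟨fun i => - p.coeff i, by
      change ∑ i : Fin n, β (- p.coeff i) * ψ x ^ (i : ℕ) = ψ (x ^ n)
      rw [eval₂_eq_sum_range, Finset.sum_range_succ] at hpx
      have hlc : p.coeff p.natDegree = 1 := hp
      rw [hlc, map_one, one_mul] at hpx
      rw [map_pow, Fin.sum_univ_eq_sum_range (fun i => β (- p.coeff i) * ψ x ^ i) n]
      rw [← neg_eq_iff_add_eq_zero] at hpx
      rw [← hpx, ← Finset.sum_neg_distrib]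
      refine Finset.sum_congr rfl fun i _ => ?_
      rw [map_neg, neg_mul]⟩
  obtain ⟨a, ha⟩ := key
  change ∑ i : Fin n, α (a i) * x ^ (i : ℕ) = x ^ n at ha
  refine ⟨X ^ n - ∑ i : Fin n, C (a i) * X ^ (i : ℕ), ?_, ?_⟩
  · rw [sub_eq_add_neg]
    refine monic_X_pow_add ?_
    rw [degree_neg]
    exact degree_sum_fin_lt _
  · rw [eval₂_sub, eval₂_pow, eval₂_X, eval₂_finsetSum]
    simp only [eval₂_mul, eval₂_C, eval₂_pow, eval₂_X]
    rw [ha, sub_self]

/-- Integrality glues along finite decompositions of the ring. -/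
theorem isIntegralElem_of_decomp {R B : Type*} [CommRing R] [CommRing B] (α : R →+* B) {ι : Type*} [Finite ι]
    {S B' : ι → Type*} [∀ i, CommRing (S i)] [∀ i, CommRing (B' i)] (φ : ∀ i, R →+* S i)
    (hφ : Function.Bijective (fun (r : R) (i : ι) => φ i r)) (β : ∀ i, S i →+* B' i) (ψ : ∀ i, B →+* B' i)
    (hψα : ∀ i r, ψ i (α r) = β i (φ i r)) (hψ : Function.Injective (fun (b : B) (i : ι) => ψ i b))
    (x : B) (hx : ∀ i, (β i).IsIntegralElem (ψ i x)) : α.IsIntegralElem x := by
  classical
  let _ := Fintype.ofFinite ι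
  choose p hp hpx using hx
  let n := ∑ i, (p i).natDegree
  have hn : ∀ i, (p i).natDegree ≤ n := fun i =>
    Finset.single_le_sum (f := fun i => (p i).natDegree) (fun _ _ => Nat.zero_le _) (Finset.mem_univ i)
  let q : ∀ i, (S i)[X] := fun i => p i * X ^ (n - (p i).natDegree)
  have hq : ∀ i, (q i).Monic := fun i => (hp i).mul (monic_X_pow _)
  choose c hc using fun j : Fin n => hφ.2 (fun i => (q i).coeff j)
  let P : R[X] := X ^ n + ∑ j : Fin n, C (c j) * X ^ (j : ℕ)
  have hP : P.Monic := by
    refine monic_X_pow_add ?_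
    exact degree_sum_fin_lt _
  refine ⟨P, hP, hψ ?_⟩
  funext i
  have h1 : P.map (φ i) = q i := by
    rcases subsingleton_or_nontrivial (S i) with hS | hS
    · exact Subsingleton.elim _ _
    · have hqn : (q i).natDegree = n := by
        rw [(hp i).natDegree_mul (monic_X_pow _), natDegree_X_pow]
        have := hn i
        omega
      have hlc : (q i).coeff n = 1 := by
        have := hq i
        rw [Monic, leadingCoeff, hqn] at this
        exact this
      refine Eq.trans ?_ (as_sum_range_C_mul_X_pow' (q i) (n := n + 1) (by omega)).symm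
      rw [Finset.sum_range_succ, hlc, map_one, one_mul, add_comm,
        ← Fin.sum_univ_eq_sum_range (fun k => C ((q i).coeff k) * X ^ k) n]
      simp only [P, Polynomial.map_add, Polynomial.map_pow, map_X, Polynomial.map_sum, Polynomial.map_mul, map_C]
      congr 1
      refine Finset.sum_congr rfl fun j _ => ?_
      have h3 : φ i (c j) = (q i).coeff j := congrFun (hc j) i
      rw [h3]
  have h2 : (q i).eval₂ (β i) (ψ i x) = 0 := by
    rw [eval₂_mul, hpx, zero_mul]
  change ψ i (P.eval₂ α x) = ψ i 0
  rw [map_zero, ← h2, ← h1, eval₂_map, hom_eval₂]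
  congr 1
  ext r
  exact hψα i r

end K617.IntAlg
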