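import Groth.Agent.S0075
import Groth.Agent.Etcore.IntUnivInj
import Groth.Agent.EtpbcB.ClosedImmEtale

/-!
# Etale schemes lift along integral universally injective morphisms (scheme level)
-/

set_option autoImplicit false
universe u
open CategoryTheory CategoryTheory.Limits AlgebraicGeometry Opposite

namespace K617.UIEtLift

/-- Topological invariance of the etale site: an etale scheme over `Y` is the base change of an etale scheme over `Z`
along a universal homeomorphism `Y ⟶ Z`. -/
theorem exists_etale_of_univHomeo {Y Z U : Scheme.{u}} (t : Y ⟶ Z) [IsIntegralHom t] [UniversallyInjective t]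
    [Surjective t] (p : U ⟶ Y) [Etale p] :
    ∃ (V : Scheme.{u}) (q : V ⟶ Z) (_ : Etale q) (r : U ⟶ V), IsPullback r p q t := by
  have h := Groth.Agent.S0075.result t
  let E : Y.Etale := Scheme.Etale.mk p
  let V := (EtCoh.bc t).objPreimage E
  let e : (EtCoh.bc t).obj V ≅ E := (EtCoh.bc t).objObjPreimageIso E
  have sq : IsPullback (pullback.fst V.hom t) (pullback.snd V.hom t) V.hom t := IsPullback.of_hasPullback _ _
  let e' : pullback V.hom t ≅ U := (MorphismProperty.Over.forget _ _ _ ⋙ Over.forget _).mapIso e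
  have he : e'.hom ≫ p = pullback.snd V.hom t := MorphismProperty.Over.w e.hom
  refine ⟨V.left, V.hom, V.prop, e'.inv ≫ pullback.fst V.hom t, ?_⟩
  refine sq.of_iso e' (Iso.refl _) (Iso.refl _) (Iso.refl _) ?_ ?_ ?_ ?_
  · simp
  · simpa using he.symm
  · simp
  · simp

/-- Etale schemes lift, Zariski locally, along an integral universally injective morphism. -/
theorem exists_etale_lift {Y X U : Scheme.{u}} (i : Y ⟶ X) [IsIntegralHom i] [UniversallyInjective i] (p : U ⟶ Y)
    [Etale p] (x : U) :
    ∃ (V : Scheme.{u}) (q : V ⟶ X) (_ : Etale q) (W : Scheme.{u}) (j : W ⟶ U) (r : W ⟶ V),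
      IsOpenImmersion j ∧ x ∈ Set.range j ∧ IsPullback r (j ≫ p) q i := by
  have h1 : IsIntegralHom (i.toImage ≫ i.imageι) := by rw [i.toImage_imageι]; infer_instance
  have h2 : IsIntegralHom i.toImage := IsIntegralHom.of_comp i.toImage i.imageι
  have h3 : UniversallyInjective (i.toImage ≫ i.imageι) := by rw [i.toImage_imageι]; infer_instance
  have h4 : UniversallyInjective i.toImage := Groth.Agent.Etcore.IntUnivInj.universallyInjective_of_comp i.toImage i.imageι
  have h5 : Surjective i.toImage := Groth.Agent.Etcore.IntUnivInj.surjective_toImage i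
  obtain ⟨V₀, q₀, hq₀, r₀, sq₀⟩ := exists_etale_of_univHomeo i.toImage p
  obtain ⟨V, q, hq, W, j, r, hj, ⟨w, hw⟩, sq⟩ :=
    Groth.Agent.EtpbcB.ClosedImmEtale.exists_etale_lift i.imageι q₀ (r₀ x)
  have sqp := IsPullback.of_hasPullback j r₀
  refine ⟨V, q, hq, pullback j r₀, pullback.snd j r₀, pullback.fst j r₀ ≫ r, inferInstance, ?_, ?_⟩
  · obtain ⟨z, -, hz⟩ := Scheme.Pullback.exists_preimage_pullback w x hw
    exact ⟨z, hz⟩
  · have s1 : IsPullback (pullback.fst j r₀) (pullback.snd j r₀ ≫ p) (j ≫ q₀) i.toImage := sqp.paste_vert sq₀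
    have s2 := s1.paste_horiz sq
    rwa [i.toImage_imageι] at s2

end K617.UIEtLift
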