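import Groth.Agent.AlgSp.K599.BCClosed
import Groth.Agent.AlgSp.K617.UIEtLift

/-!
# Base change of small etale sites along an integral universally injective representable morphism

`isCoverDense_bc`, `isLocallyFull_bc`, `isLocallyFaithful_bc` for `i : Z ⟶ X` representable, with integral and
universally injective base changes to schemes, `X` with an atlas.
-/

set_option autoImplicit false
set_option backward.isDefEq.respectTransparency false
universe u
open CategoryTheory CategoryTheory.Limits AlgebraicGeometry Opposite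
open AlgSp

namespace K617.IntBC

open K599.EtSite K599.BCClosed

variable {S : Scheme.{u}} {Z X : Sp S} {i : Z ⟶ X} (hi : RepWith @IsIntegralHom i)
  (hu : RepWith @UniversallyInjective i)

include hi in
theorem isIntegralHom_bcπ (E : EtOver X) : IsIntegralHom (EtOver.bcπ hi.1 E).left :=
  hi.2 _ _ _ (EtOver.isPullback_bcObj hi.1 E)

include hu in
theorem universallyInjective_bcπ (E : EtOver X) : UniversallyInjective (EtOver.bcπ hi.1 E).left :=
  hu.2 _ _ _ (EtOver.isPullback_bcObj hi.1 E)

include hu in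
theorem isClosedEmbedding_bcπ (E : EtOver X) : Topology.IsClosedEmbedding (EtOver.bcπ hi.1 E).left := by
  have := isIntegralHom_bcπ hi E
  have := universallyInjective_bcπ hi hu E
  exact Topology.IsClosedEmbedding.of_continuous_injective_isClosedMap (EtOver.bcπ hi.1 E).left.continuous
    (EtOver.bcπ hi.1 E).left.injective (EtOver.bcπ hi.1 E).left.isClosedMap

include hu in
/-- An object of the small etale site of `Z` is, locally, the restriction of an object of the small
etale site of `X`. -/
theorem exists_bc_lift {U : Over S} {p : (yon S).obj U ⟶ X} (hp : RepWith @Etale p)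
    (hps : RepWith @Surjective p) (E : EtOver Z) (x : ↥E.obj.left.left) :
    ∃ (V : EtOver X) (h : EtOver.bcObj hi.1 V ⟶ E), x ∈ Set.range h.hom.left.left := by
  let E₀ : EtOver X := EtOver.mk p hp
  let B₀ : EtOver Z := EtOver.bcObj hi.1 E₀
  have hB₀ : RepWith @Surjective B₀.obj.hom :=
    MorphismProperty.of_isPullback (EtOver.isPullback_bcObj hi.1 E₀).flip hps
  let P : EtOver Z := EtOver.prodObj E B₀
  have hsur := surjective_prodFst E B₀ hB₀
  obtain ⟨y, hy⟩ := hsur.surj x
  have : IsIntegralHom (EtOver.bcπ hi.1 E₀).left := isIntegralHom_bcπ hi E₀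
  have : UniversallyInjective (EtOver.bcπ hi.1 E₀).left := universallyInjective_bcπ hi hu E₀
  have : Etale (EtOver.prodSnd E B₀).hom.left.left := EtOver.etale_left _
  obtain ⟨V, q, hq, W, j, r, hj, hyj, hpb⟩ :=
    K617.UIEtLift.exists_etale_lift (EtOver.bcπ hi.1 E₀).left
      (EtOver.prodSnd E B₀).hom.left.left y
  let q' : Over.mk (q ≫ U.hom) ⟶ U := Over.homMk q rfl
  let EV : EtOver X := EtOver.mk ((yon S).map q' ≫ p)
    ((repWith_isMultiplicative (S := S) @Etale).comp_mem _ _ ((repWith_yon_map_iff _ _).2 hq) hp)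
  let g : EV ⟶ E₀ := EtOver.homMk q' rfl
  have sq := EtOver.isPullback_bcMap_left hi.1 g
  -- the comparison iso `V ×_U U_Z ≅ W`
  have sq' : IsPullback r (j ≫ (EtOver.prodSnd E B₀).hom.left.left) q (EtOver.bcπ hi.1 E₀).left := hpb
  let e : (EtOver.bcObj hi.1 EV).obj.left.left ≅ W := sq.flip.isoIsPullback _ _ sq'
  have he : e.hom ≫ j ≫ (EtOver.prodSnd E B₀).hom.left.left = (EtOver.bcMap hi.1 g).hom.left.left :=
    sq.flip.isoIsPullback_hom_snd _ _ sq'
  let k : (EtOver.bcObj hi.1 EV).obj.left ⟶ P.obj.left := Over.homMk (e.hom ≫ j) (by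
    have h1 := Over.w (EtOver.prodSnd E B₀).hom.left
    have h2 := Over.w (EtOver.bcMap hi.1 g).hom.left
    rw [← h1, ← h2, ← he]
    simp only [Category.assoc]
    rfl)
  have hk : k ≫ (EtOver.prodSnd E B₀).hom.left = (EtOver.bcMap hi.1 g).hom.left := by
    apply Over.OverMorphism.ext
    change (e.hom ≫ j) ≫ _ = _
    rw [Category.assoc, he]
  let h : EtOver.bcObj hi.1 EV ⟶ P := EtOver.homMk k (by
    rw [← EtOver.w (EtOver.prodSnd E B₀), ← Category.assoc, ← Functor.map_comp, hk]
    exact EtOver.w (EtOver.bcMap hi.1 g))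
  refine ⟨EV, h ≫ EtOver.prodFst E B₀, ?_⟩
  obtain ⟨w, hw⟩ := hyj
  refine ⟨e.inv w, ?_⟩
  change ((e.hom ≫ j) ≫ (EtOver.prodFst E B₀).hom.left.left) (e.inv w) = x
  rw [← hy, ← hw, Category.assoc, ← Scheme.Hom.comp_apply, Iso.inv_hom_id_assoc,
    Scheme.Hom.comp_apply]

include hu in
/-- A morphism between restrictions to `Z` is, up to shrinking, the restriction of a morphism. -/
theorem exists_almost_full (U U' : EtOver X) (h : EtOver.bcObj hi.1 U ⟶ EtOver.bcObj hi.1 U') :
    ∃ (W : EtOver X) (a : W ⟶ U) (b : W ⟶ U'),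
      IsIso (EtOver.bcMap hi.1 a) ∧ EtOver.bcMap hi.1 a ≫ h = EtOver.bcMap hi.1 b := by
  let P : EtOver X := EtOver.prodObj U U'
  obtain ⟨s, hs1, hs2⟩ := exists_lift_prod hi.1 (𝟙 (EtOver.bcObj hi.1 U)) h
  have hmono : Mono s.hom.left.left := by
    have : s.hom.left.left ≫ (EtOver.bcMap hi.1 (EtOver.prodFst U U')).hom.left.left = 𝟙 _ :=
      congrArg (fun k => k.hom.left.left) hs1
    exact mono_of_mono_fac this
  have hopen : IsOpenImmersion s.hom.left.left := isOpenImmersion_of_mono_left s
  let q : (EtOver.bcObj hi.1 P).obj.left.left ⟶ P.obj.left.left := (EtOver.bcπ hi.1 P).left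
  have hq : Topology.IsClosedEmbedding q := isClosedEmbedding_bcπ hi hu P
  obtain ⟨O, hO, hO'⟩ := hq.isInducing.isOpen_iff.1
    s.hom.left.left.isOpenEmbedding.isOpen_range
  let W : EtOver X := openSub P ⟨O, hO⟩
  let ι : W ⟶ P := openSubι P ⟨O, hO⟩
  have hι : IsOpenImmersion ι.hom.left.left :=
    inferInstanceAs (IsOpenImmersion (Scheme.Opens.ι ⟨O, hO⟩))
  have sq := EtOver.isPullback_bcMap_left hi.1 ι
  have hm : IsOpenImmersion (EtOver.bcMap hi.1 ι).hom.left.left :=
    MorphismProperty.of_isPullback (P := @IsOpenImmersion) sq.flip hι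
  have hrange : Set.range (EtOver.bcMap hi.1 ι).hom.left.left = Set.range s.hom.left.left := by
    have h1 := Scheme.image_preimage_eq_of_isPullback sq.flip Set.univ
    rw [Set.preimage_univ, Set.image_univ, Set.image_univ] at h1
    refine h1.trans ?_
    have h2 : Set.range ι.hom.left.left = O := Scheme.Opens.range_ι ⟨O, hO⟩
    rw [← hO']
    exact congrArg (fun S => q ⁻¹' S) h2
  let e : (EtOver.bcObj hi.1 W).obj.left.left ≅ (EtOver.bcObj hi.1 U).obj.left.left :=
    IsOpenImmersion.isoOfRangeEq (EtOver.bcMap hi.1 ι).hom.left.left s.hom.left.left hrange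
  have he : e.hom ≫ s.hom.left.left = (EtOver.bcMap hi.1 ι).hom.left.left :=
    IsOpenImmersion.isoOfRangeEq_hom_fac _ _ _
  let a : W ⟶ U := ι ≫ EtOver.prodFst U U'
  let b : W ⟶ U' := ι ≫ EtOver.prodSnd U U'
  have hmapa : EtOver.bcMap hi.1 a = EtOver.bcMap hi.1 ι ≫ EtOver.bcMap hi.1 (EtOver.prodFst U U') :=
    (EtOver.bc hi.1).map_comp ι (EtOver.prodFst U U')
  have hmapb : EtOver.bcMap hi.1 b = EtOver.bcMap hi.1 ι ≫ EtOver.bcMap hi.1 (EtOver.prodSnd U U') :=
    (EtOver.bc hi.1).map_comp ι (EtOver.prodSnd U U')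
  have ha : (EtOver.bcMap hi.1 a).hom.left.left = e.hom := by
    have h1 : (EtOver.bcMap hi.1 a).hom.left.left =
        (EtOver.bcMap hi.1 ι).hom.left.left ≫
          (EtOver.bcMap hi.1 (EtOver.prodFst U U')).hom.left.left :=
      congrArg (fun k => k.hom.left.left) hmapa
    have h2 : s.hom.left.left ≫ (EtOver.bcMap hi.1 (EtOver.prodFst U U')).hom.left.left = 𝟙 _ :=
      congrArg (fun k => k.hom.left.left) hs1
    rw [h1, ← he]
    exact (Category.assoc _ _ _).trans ((congrArg (e.hom ≫ ·) h2).trans (Category.comp_id _))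
  have hae : EtOver.bcMap hi.1 a ≫ s = EtOver.bcMap hi.1 ι := by
    refine EtOver.hom_ext _ _ (Over.OverMorphism.ext ?_)
    have : (EtOver.bcMap hi.1 a).hom.left.left ≫ s.hom.left.left =
      (EtOver.bcMap hi.1 ι).hom.left.left := by rw [ha, he]
    exact this
  refine ⟨W, a, b, ?_, ?_⟩
  · have : IsIso (EtOver.bcMap hi.1 a).hom.left.left := by rw [ha]; infer_instance
    exact isIso_of_isIso_left _
  · rw [hmapb, ← hs2, ← Category.assoc, hae]

include hu in
/-- Base change of small etale sites along `i` is cover dense. -/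
theorem isCoverDense_bc (hX : IsAlgSpace X) : (EtOver.bc hi.1).IsCoverDense (etTop Z) where
  is_cover E := by
    obtain ⟨U, p, hp, hps⟩ := hX.atlas
    refine (mem_etTop_iff _).2 fun x => ?_
    obtain ⟨V, h, v, hv⟩ := exists_bc_lift hi hu hp hps E x
    exact ⟨_, h, v, Presieve.in_coverByImage (EtOver.bc hi.1) h, hv⟩

include hu in
/-- Base change of small etale sites along `i` is locally full. -/
theorem isLocallyFull_bc : (EtOver.bc hi.1).IsLocallyFull (etTop Z) where
  functorPushforward_imageSieve_mem {U V} f := by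
    obtain ⟨W, a, b, ha, hab⟩ := exists_almost_full hi hu U V f
    have h1 : (Functor.imageSieve (EtOver.bc hi.1) f) a := ⟨b, hab.symm⟩
    have h2 := Sieve.image_mem_functorPushforward (EtOver.bc hi.1) _ h1
    have h3 : (Sieve.functorPushforward (EtOver.bc hi.1) (Functor.imageSieve (EtOver.bc hi.1) f)) =
        ⊤ := by
      rw [← Sieve.id_mem_iff_eq_top]
      have : IsIso ((EtOver.bc hi.1).map a) := ha
      have := Sieve.downward_closed _ h2 (inv ((EtOver.bc hi.1).map a))
      rwa [IsIso.inv_hom_id] at this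
    rw [h3]
    exact GrothendieckTopology.top_mem _ _

end K617.IntBC
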