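import Groth.Agent.AlgSp.K617.IntBC
import Groth.Agent.AlgSp.K610.Base
import Groth.Agent.AlgSp.K597.UnivInj

/-!
# The essential image of the direct image along an integral universally injective morphism

* `isLocallyFaithful_bc`;
* `isSheaf_induced`: a sheaf on the small etale site of `X` with one-element sections over the objects missing the
  image of `i` is a sheaf for the topology induced from the small etale site of `Z`.
-/

set_option autoImplicit false
set_option backward.isDefEq.respectTransparency false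
universe w u
open CategoryTheory CategoryTheory.Limits AlgebraicGeometry Opposite
open AlgSp

namespace K617.IntBC2

open K599.EtSite K599.BCClosed K617.IntBC

variable {S : Scheme.{u}} {Z X : Sp S} {i : Z ⟶ X}

/-- Two morphisms of the site of `X` agreeing after base change to `Z` agree on an open neighbourhood of `Z`. -/
theorem exists_equalizer (hi : Representable i) {U V : EtOver X} (f₁ f₂ : U ⟶ V)
    (h : EtOver.bcMap hi f₁ = EtOver.bcMap hi f₂) :
    ∃ (W : EtOver X) (ι : W ⟶ U), ι ≫ f₁ = ι ≫ f₂ ∧ ∀ z : ↥(EtOver.bcObj hi U).obj.left.left,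
      ∃ z' : ↥(EtOver.bcObj hi W).obj.left.left, (EtOver.bcMap hi ι).hom.left.left z' = z := by
  obtain ⟨δ, hδ₁, hδ₂⟩ := BinaryFan.IsLimit.lift' (EtOver.prodIsLimit V V) (𝟙 V) (𝟙 V)
  obtain ⟨φ, hφ₁, hφ₂⟩ := BinaryFan.IsLimit.lift' (EtOver.prodIsLimit V V) f₁ f₂
  change δ ≫ EtOver.prodFst V V = 𝟙 V at hδ₁
  change δ ≫ EtOver.prodSnd V V = 𝟙 V at hδ₂
  change φ ≫ EtOver.prodFst V V = f₁ at hφ₁
  change φ ≫ EtOver.prodSnd V V = f₂ at hφ₂
  have e1 : φ.hom.left ≫ (EtOver.prodFst V V).hom.left = f₁.hom.left := congrArg (fun k => k.hom.left) hφ₁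
  have e2 : φ.hom.left ≫ (EtOver.prodSnd V V).hom.left = f₂.hom.left := congrArg (fun k => k.hom.left) hφ₂
  have e3 : δ.hom.left ≫ (EtOver.prodFst V V).hom.left = 𝟙 _ := congrArg (fun k => k.hom.left) hδ₁
  have e4 : δ.hom.left ≫ (EtOver.prodSnd V V).hom.left = 𝟙 _ := congrArg (fun k => k.hom.left) hδ₂
  have hb : EtOver.bcπ hi U ≫ f₁.hom.left = EtOver.bcπ hi U ≫ f₂.hom.left := by
    rw [← EtOver.bcMap_snd, ← EtOver.bcMap_snd, h]
  let W : EtOver X := EtOver.pullbackObj φ δ
  let ι : W ⟶ U := EtOver.pullbackFst φ δ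
  have hw : ι ≫ φ = EtOver.pullbackSnd φ δ ≫ δ := (EtOver.isPullback φ δ).w
  refine ⟨W, ι, ?_, fun z => ?_⟩
  · rw [← hφ₁, ← hφ₂, reassoc_of% hw, reassoc_of% hw, hδ₁, hδ₂]
  · let ℓ : (EtOver.bcObj hi U).obj.left ⟶ pullback φ.hom.left δ.hom.left :=
      pullback.lift (EtOver.bcπ hi U) (EtOver.bcπ hi U ≫ f₁.hom.left) (by
        refine Functor.relativelyRepresentable.hom_ext' V.property.1 ?_ ?_
        · change (EtOver.bcπ hi U ≫ φ.hom.left) ≫ (EtOver.prodSnd V V).hom.left =
            ((EtOver.bcπ hi U ≫ f₁.hom.left) ≫ δ.hom.left) ≫ (EtOver.prodSnd V V).hom.left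
          rw [Category.assoc, e2, Category.assoc, e4, Category.comp_id, hb]
        · change (EtOver.bcπ hi U ≫ φ.hom.left) ≫ (EtOver.prodFst V V).hom.left =
            ((EtOver.bcπ hi U ≫ f₁.hom.left) ≫ δ.hom.left) ≫ (EtOver.prodFst V V).hom.left
          rw [Category.assoc, e1, Category.assoc, e3, Category.comp_id])
    have hℓ : ℓ ≫ ι.hom.left = EtOver.bcπ hi U := pullback.lift_fst _ _ _
    have sq := EtOver.isPullback_bcMap_left hi ι
    have hℓ' : 𝟙 _ ≫ (hi.snd U.obj.hom).left = ℓ.left ≫ ι.hom.left.left := by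
      rw [Category.id_comp]
      exact (congrArg (fun k => k.left) hℓ).symm
    refine ⟨sq.lift (𝟙 _) ℓ.left hℓ' z, ?_⟩
    rw [← Scheme.Hom.comp_apply, sq.lift_fst]
    rfl

/-- Base change of small etale sites is locally faithful. -/
theorem isLocallyFaithful_bc (hi : Representable i) : (EtOver.bc hi).IsLocallyFaithful (etTop Z) where
  functorPushforward_equalizer_mem {U V} f₁ f₂ h := by
    obtain ⟨W, ι, hι, hs⟩ := exists_equalizer hi f₁ f₂ h
    refine (mem_etTop_iff _).2 fun z => ?_
    obtain ⟨z', hz'⟩ := hs z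
    exact ⟨_, EtOver.bcMap hi ι, z', Sieve.image_mem_functorPushforward (EtOver.bc hi) _ hι, hz'⟩

/-- The image of `E` misses the image of `i`. -/
def Misses (i : Z ⟶ X) (E : EtOver X) : Prop :=
  Disjoint (Set.range (Points.map E.obj.hom)) (Set.range (Points.map i))

theorem Misses.of_hom {E E' : EtOver X} (g : E' ⟶ E) (h : Misses i E) : Misses i E' := by
  refine h.mono_left ?_
  rintro _ ⟨x, rfl⟩
  refine ⟨Points.map ((yon S).map g.hom.left) x, ?_⟩
  rw [← Points.map_comp, EtOver.w g]

theorem misses_openSub (hi : Representable i) (E : EtOver X) (O : E.obj.left.left.Opens)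
    (hO : ∀ z : ↥(EtOver.bcObj hi E).obj.left.left, (EtOver.bcπ hi E).left z ∉ O) : Misses i (openSub E O) := by
  refine Set.disjoint_left.2 ?_
  rintro _ ⟨y, rfl⟩ ⟨z, hz⟩
  obtain ⟨y, rfl⟩ := (Points.schemeEquiv _).surjective y
  change Points.map i z = Points.map (openSub E O).obj.hom (Points.ofScheme _ y) at hz
  rw [← Points.ofPt_eq_map_ofScheme] at hz
  have h1 : Points.ofPt (openSub E O).obj.hom y = Points.ofPt E.obj.hom ((openSubι E O).hom.left.left y) := by
    rw [← K610.Base.ofPt_map_comp, EtOver.w]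
  rw [h1] at hz
  obtain ⟨v, -, hv⟩ := K610.Base.exists_of_isPullback_yon (EtOver.isPullback_bcObj hi E) z _ hz
  refine hO v ?_
  rw [hv]
  exact y.2

/-- a covering of the base change of `E` covers the image of `i` in `E` -/
theorem exists_of_functorPushforward (hi : Representable i) {E : EtOver X} {R : Sieve E}
    (h : R.functorPushforward (EtOver.bc hi) ∈ etTop Z ((EtOver.bc hi).obj E))
    (z : ↥(EtOver.bcObj hi E).obj.left.left) :
    ∃ (E' : EtOver X) (g : E' ⟶ E) (y : ↥E'.obj.left.left), R g ∧ g.hom.left.left y = (EtOver.bcπ hi E).left z := by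
  obtain ⟨V, f, v, ⟨E', g, k, hg, rfl⟩, hv⟩ := (mem_etTop_iff _).1 h z
  refine ⟨E', g, (EtOver.bcπ hi E').left (k.hom.left.left v), hg, ?_⟩
  have h1 : (EtOver.bcMap hi g).hom.left ≫ EtOver.bcπ hi E = EtOver.bcπ hi E' ≫ g.hom.left :=
    EtOver.bcMap_snd hi g
  have h2 := congrArg (fun m => m.left (k.hom.left.left v)) h1
  simp only [Over.comp_left, Scheme.Hom.comp_apply] at h2
  rw [← h2, ← hv]
  rfl

/-- Enlarging a sieve by the objects missing the image of `i`. -/
def plus (i : Z ⟶ X) {E : EtOver X} (R : Sieve E) : Sieve E where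
  arrows {E'} g := R g ∨ Misses i E'
  downward_closed := by
    rintro E' E'' g hg h
    rcases hg with hg | hg
    · exact Or.inl (R.downward_closed hg h)
    · exact Or.inr (hg.of_hom h)

theorem plus_mem (hi : RepWith @IsIntegralHom i) (hu : RepWith @UniversallyInjective i) {E : EtOver X} {R : Sieve E}
    (h : R.functorPushforward (EtOver.bc hi.1) ∈ etTop Z ((EtOver.bc hi.1).obj E)) : plus i R ∈ etTop X E := by
  refine (mem_etTop_iff _).2 fun x => ?_
  by_cases hx : x ∈ Set.range (EtOver.bcπ hi.1 E).left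
  · obtain ⟨z, rfl⟩ := hx
    obtain ⟨E', g, y, hg, hy⟩ := exists_of_functorPushforward hi.1 h z
    exact ⟨E', g, y, Or.inl hg, hy⟩
  · let O : E.obj.left.left.Opens := ⟨(Set.range (EtOver.bcπ hi.1 E).left)ᶜ,
      (isClosedEmbedding_bcπ hi hu E).isClosed_range.isOpen_compl⟩
    exact ⟨openSub E O, openSubι E O, ⟨x, hx⟩, Or.inr (misses_openSub hi.1 E O fun z hz => hz ⟨z, rfl⟩), rfl⟩

/-- A sheaf on the small etale site of `X` with one-element sections over the objects missing the image of `i` is a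
sheaf for the topology induced from the small etale site of `Z`. -/
theorem isSheafFor (hi : RepWith @IsIntegralHom i) (hu : RepWith @UniversallyInjective i)
    (P : (EtOver X)ᵒᵖ ⥤ Type w) (hP : Presieve.IsSheaf (etTop X) P)
    (h1 : ∀ E, Misses i E → Nonempty (Unique (P.obj (op E)))) {E : EtOver X} {R : Sieve E}
    (h : R.functorPushforward (EtOver.bc hi.1) ∈ etTop Z ((EtOver.bc hi.1).obj E)) :
    Presieve.IsSheafFor P R.arrows := by
  classical
  intro x hx
  let x' : Presieve.FamilyOfElements P (plus i R).arrows := fun E' g hg =>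
    if hr : R g then x g hr else (Classical.choice (h1 E' (hg.resolve_left hr))).default
  have hsub : ∀ E', Misses i E' → Subsingleton (P.obj (op E')) := fun E' h' =>
    (Classical.choice (h1 E' h')).instSubsingleton
  have hxs := (Presieve.compatible_iff_sieveCompatible x).1 hx
  have hx' : x'.Compatible := by
    rw [Presieve.compatible_iff_sieveCompatible]
    intro E' E'' f g hf
    by_cases hr : R f
    · have hr' : R (g ≫ f) := R.downward_closed hr g
      simp only [x', hr, hr', dif_pos]
      exact hxs f g hr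
    · have := hsub E'' ((hf.resolve_left hr).of_hom g)
      exact Subsingleton.elim _ _
  obtain ⟨t, ht, ht'⟩ := hP (plus i R) (plus_mem hi hu h) x' hx'
  refine ⟨t, fun E' g hg => ?_, fun s hs => ht' s fun E' g hg => ?_⟩
  · have := ht g (Or.inl hg)
    simpa only [x', hg, dif_pos] using this
  · by_cases hr : R g
    · simp only [x', hr, dif_pos]
      exact hs g hr
    · have := hsub E' (hg.resolve_left hr)
      exact Subsingleton.elim _ _

end K617.IntBC2
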