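import Groth.Agent.AlgSp.K617.IntAlg2
import Groth.Agent.AlgSp.K644.Chart

/-!
# The subalgebra of integral elements of a quasi-coherent algebra on the small étale site
-/

set_option autoImplicit false
universe u

open CategoryTheory CategoryTheory.Limits AlgebraicGeometry Opposite

namespace K617.IntSub

open AlgSp K644.Chart K644.EtSite K644.Site K617.IntAlg Groth.Agent.Etbase.FFExact

variable {S : Scheme.{u}} {X : Sp S} {A : EtSh X CommRingCat.{u + 1}} (φ : OEt X ⟶ A)

/-- The module of an algebra. -/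
noncomputable abbrev modAlg (φ : OEt X ⟶ A) : ModEt X :=
  (SheafOfModules.restrictScalars
        ((sheafCompose (AlgSp.etTop X) (forget₂ CommRingCat.{u + 1} RingCat.{u + 1})).map φ)).obj
      (SheafOfModules.unit
        ((sheafCompose (AlgSp.etTop X) (forget₂ CommRingCat.{u + 1} RingCat.{u + 1})).obj A))

/-- Functions to the algebra. -/
noncomputable def al (E : EtOver X) : Γ(sch E, ⊤) →+* A.obj.obj (op E) :=
  (φ.hom.app (op E)).hom.comp
    (ULift.ringEquiv.symm.toRingHom : Γ(sch E, ⊤) →+* ULift.{u + 1} Γ(sch E, ⊤))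

theorem al_nat {E E' : EtOver X} (g : E' ⟶ E) (r : Γ(sch E, ⊤)) :
    (A.obj.map g.op).hom (al φ E r) = al φ E' ((mor g).appTop.hom r) := by
  have := φ.hom.naturality g.op
  exact (congrArg (fun z => z.hom (ULift.up r)) this).symm

theorem smul_eq_al (E : EtOver X) (r : Γ(sch E, ⊤))
    (b : (modAlg φ).val.presheaf.obj (op E)) :
    r • b = (al φ E r * (show A.obj.obj (op E) from b) : A.obj.obj (op E)) := rfl

theorem isIntegralElem_iff (E : EtOver X) (x : A.obj.obj (op E)) :
    (φ.hom.app (op E)).hom.IsIntegralElem x ↔ (al φ E).IsIntegralElem x := by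
  constructor
  · rintro ⟨p, hp, hpx⟩
    refine ⟨p.map (ULift.ringEquiv.toRingHom : ULift.{u + 1} Γ(sch E, ⊤) →+* Γ(sch E, ⊤)),
      hp.map _, ?_⟩
    rw [Polynomial.eval₂_map]
    exact hpx
  · rintro ⟨p, hp, hpx⟩
    refine ⟨p.map (ULift.ringEquiv.symm.toRingHom : Γ(sch E, ⊤) →+* ULift.{u + 1} Γ(sch E, ⊤)),
      hp.map _, ?_⟩
    rw [Polynomial.eval₂_map]
    exact hpx

theorem isSheaf_types (B : EtSh X CommRingCat.{u + 1}) :
    Presieve.IsSheaf (etTop X) (B.obj ⋙ CategoryTheory.forget CommRingCat.{u + 1}) :=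
  (isSheaf_iff_isSheaf_of_type _ _).1 ((sheafCompose (etTop X) (CategoryTheory.forget CommRingCat.{u + 1})).obj B).property

theorem ext_of_cover (B : EtSh X CommRingCat.{u + 1}) {E : EtOver X} (R : Sieve E) (hR : R ∈ etTop X E)
    (x y : B.obj.obj (op E))
    (h : ∀ (E' : EtOver X) (g : E' ⟶ E), R g → (B.obj.map g.op).hom x = (B.obj.map g.op).hom y) : x = y :=
  ((isSheaf_types B) R hR).isSeparatedFor.ext (t₁ := x) (t₂ := y) fun E' g hg => h E' g hg

section qc

variable [hqc : (modAlg φ).IsQuasicoherent]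

/-- Integrality is local. -/
theorem isIntegralElem_of_local {E : EtOver X} (hE : IsAffine (sch E)) (R : Sieve E)
    (hR : R ∈ etTop X E) (x : A.obj.obj (op E))
    (hx : ∀ (E' : EtOver X) (g : E' ⟶ E), R g → IsAffine (sch E') →
      (al φ E').IsIntegralElem ((A.obj.map g.op).hom x)) : (al φ E).IsIntegralElem x := by
  obtain ⟨V, f, ι, Y, s, hf, hs, hR'⟩ :=
    QCSite.exists_cover (J := etTop X) (T := EtOver.toScheme X) E hE R hR
  let m1 : Module Γ(sch E, ⊤) (A.obj.obj (op E)) := modSec (modAlg φ) E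
  let m2 : Module Γ(sch V, ⊤) (A.obj.obj (op V)) := modSec (modAlg φ) V
  have h1 : IsBC (mor f).appTop.hom ((A.obj.map f.op).hom : A.obj.obj (op E) →+ A.obj.obj (op V)) :=
    isBC_of_isQuasicoherent (modAlg φ) f hE hf.src
  refine isIntegralElem_of_ff (mor f).appTop.hom hf.ff (al φ E) (al φ V) (A.obj.map f.op).hom
    (fun r b => smul_eq_al φ E r b) (fun r b => smul_eq_al φ V r b) (fun r => al_nat φ f r) h1 x ?_
  have := hs.fin
  refine isIntegralElem_of_decomp (al φ V) (fun i => (mor (s i)).appTop.hom) hs.bij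
    (fun i => al φ (Y i)) (fun i => (A.obj.map (s i).op).hom) (fun i r => al_nat φ (s i) r) ?_ _ ?_
  · intro a b hab
    refine ext_of_cover A _ hs.mem a b ?_
    rintro E' _ ⟨_, g, _, ⟨i⟩, rfl⟩
    rw [op_comp, Functor.map_comp]
    exact congrArg (A.obj.map g.op).hom (congrFun hab i)
  · intro i
    have := hx (Y i) (s i ≫ f) (hR' i) (hs.aff i)
    rw [op_comp, Functor.map_comp] at this
    exact this

end qc

/-! ### The subsheaf -/

/-- The elements all of whose restrictions to affine objects are integral. -/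
def intSub (E : EtOver X) : Subring (A.obj.obj (op E)) where
  carrier := {x | ∀ (E' : EtOver X) (g : E' ⟶ E), IsAffine (sch E') →
    (al φ E').IsIntegralElem ((A.obj.map g.op).hom x)}
  mul_mem' ha hb E' g h := by
    rw [map_mul]
    exact RingHom.IsIntegralElem.mul _ (ha E' g h) (hb E' g h)
  one_mem' E' g _ := by
    rw [map_one]
    exact RingHom.isIntegralElem_one _
  add_mem' ha hb E' g h := by
    rw [map_add]
    exact RingHom.IsIntegralElem.add _ (ha E' g h) (hb E' g h)
  zero_mem' E' g _ := by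
    rw [map_zero]
    exact RingHom.isIntegralElem_zero _
  neg_mem' ha E' g h := by
    rw [map_neg]
    exact RingHom.IsIntegralElem.neg _ (ha E' g h)

theorem map_mem_intSub {E E' : EtOver X} (g : E' ⟶ E) {x : A.obj.obj (op E)} (hx : x ∈ intSub φ E) :
    (A.obj.map g.op).hom x ∈ intSub φ E' := by
  intro E'' h hE''
  have := hx E'' (h ≫ g) hE''
  rw [op_comp, Functor.map_comp] at this
  exact this

/-- The presheaf. -/
noncomputable def intPsh : (EtOver X)ᵒᵖ ⥤ CommRingCat.{u + 1} where
  obj E := CommRingCat.of (intSub φ E.unop)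
  map {E E'} g := CommRingCat.ofHom (((A.obj.map g).hom.comp (intSub φ E.unop).subtype).codRestrict
    (intSub φ E'.unop) (fun x => map_mem_intSub φ g.unop x.2))
  map_id E := by
    ext x
    exact congrArg (fun z => z.hom x.1) (A.obj.map_id E)
  map_comp g h := by
    ext x
    exact congrArg (fun z => z.hom x.1) (A.obj.map_comp g h)

/-- The inclusion. -/
noncomputable def intInc : intPsh φ ⟶ A.obj where
  app E := CommRingCat.ofHom (intSub φ E.unop).subtype

theorem intPsh_isSheaf [hqc : (modAlg φ).IsQuasicoherent] : Presheaf.IsSheaf (etTop X) (intPsh φ) := by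
  rw [Presheaf.isSheaf_iff_isSheaf_forget (etTop X) (intPsh φ) (CategoryTheory.forget CommRingCat.{u + 1}),
    isSheaf_iff_isSheaf_of_type]
  intro E R hR v hv
  let v' : Presieve.FamilyOfElements (A.obj ⋙ CategoryTheory.forget CommRingCat.{u + 1}) R.arrows :=
    fun Y f hf => (v f hf).1
  have hv' : v'.Compatible := fun Y1 Y2 Z g1 g2 f1 f2 h1 h2 h =>
    congrArg Subtype.val (hv g1 g2 h1 h2 h)
  obtain ⟨x, hx, hu⟩ := isSheaf_types A R hR v' hv'
  have hxm : x ∈ intSub φ E := by
    intro E' g hE'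
    refine isIntegralElem_of_local φ hE' (R.pullback g) ((etTop X).pullback_stable g hR) _ ?_
    intro E'' h hh hE''
    have h1 : (A.obj.map (h ≫ g).op).hom x = (v (h ≫ g) hh).1 := hx (h ≫ g) hh
    rw [op_comp, Functor.map_comp] at h1
    refine Eq.mpr (congrArg (al φ E'').IsIntegralElem h1) ?_
    have h2 := (v (h ≫ g) hh).2 E'' (𝟙 _) hE''
    rw [op_id, A.obj.map_id] at h2
    exact h2
  refine ⟨⟨x, hxm⟩, fun Y f hf => Subtype.ext (hx f hf), ?_⟩
  intro y hy
  refine Subtype.ext (hu y.1 fun Y f hf => congrArg Subtype.val (hy f hf))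

/-- The subsheaf. -/
noncomputable def intSh [hqc : (modAlg φ).IsQuasicoherent] : EtSh X CommRingCat.{u + 1} :=
  ⟨intPsh φ, intPsh_isSheaf φ⟩

/-- The inclusion. -/
noncomputable def intι [hqc : (modAlg φ).IsQuasicoherent] : intSh φ ⟶ A := ⟨intInc φ⟩

theorem mem_intSub_iff {E : EtOver X} (hE : IsAffine (sch E)) (x : A.obj.obj (op E)) :
    x ∈ intSub φ E ↔ (al φ E).IsIntegralElem x := by
  constructor
  · intro h
    have := h E (𝟙 E) hE
    rw [op_id, A.obj.map_id] at this
    exact this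
  · rintro ⟨p, hp, hpx⟩ E' g hE'
    refine ⟨p.map (mor g).appTop.hom, hp.map _, ?_⟩
    rw [Polynomial.eval₂_map]
    have h1 : (al φ E').comp (mor g).appTop.hom = (A.obj.map g.op).hom.comp (al φ E) :=
      RingHom.ext fun r => (al_nat φ g r).symm
    rw [h1, ← Polynomial.hom_eval₂, hpx, map_zero]

theorem al_mem (E : EtOver X) (r : Γ(sch E, ⊤)) : al φ E r ∈ intSub φ E := by
  intro E' g _
  rw [al_nat]
  exact RingHom.isIntegralElem_map _

/-- The structure map. -/
noncomputable def intφ [hqc : (modAlg φ).IsQuasicoherent] : OEt X ⟶ intSh φ := ⟨{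
    app E := CommRingCat.ofHom ((φ.hom.app E).hom.codRestrict (intSub φ E.unop)
      (fun x => al_mem φ E.unop x.down))
    naturality E E' g := by
      ext x
      refine Subtype.ext ?_
      exact congrArg (fun z => z.hom x) (φ.hom.naturality g) }⟩

theorem intφ_ι [hqc : (modAlg φ).IsQuasicoherent] : intφ φ ≫ intι φ = φ := by
  ext E x
  rfl

theorem intSh_isQuasicoherent [hqc : (modAlg φ).IsQuasicoherent] : (modAlg (intφ φ)).IsQuasicoherent := by
  rw [isQuasicoherent_iff_isCart]
  intro E E1 g hE hE1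
  let m1 : Module Γ(sch E, ⊤) (A.obj.obj (op E)) := modSec (modAlg φ) E
  let m2 : Module Γ(sch E1, ⊤) (A.obj.obj (op E1)) := modSec (modAlg φ) E1
  let m3 : Module Γ(sch E, ⊤) ((intSh φ).obj.obj (op E)) := modSec (modAlg (intφ φ)) E
  let m4 : Module Γ(sch E1, ⊤) ((intSh φ).obj.obj (op E1)) := modSec (modAlg (intφ φ)) E1
  have h1 : IsBC (mor g).appTop.hom ((A.obj.map g.op).hom : A.obj.obj (op E) →+ A.obj.obj (op E1)) :=
    isBC_of_isQuasicoherent (modAlg φ) g hE hE1
  have hsm : (mor g).appTop.hom.Smooth := by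
    have : IsAffine (sch E) := hE
    have : IsAffine (sch E1) := hE1
    have h2 : Smooth (mor g) := inferInstance
    exact (HasRingHomProperty.iff_of_isAffine (P := @Smooth)).1 h2
  exact isBC_of_integral (mor g).appTop.hom hsm (al φ E) (al φ E1) (A.obj.map g.op).hom
    (al (intφ φ) E) (al (intφ φ) E1) ((intSh φ).obj.map g.op).hom
    ((intι φ).hom.app (op E)).hom ((intι φ).hom.app (op E1)).hom
    (fun r b => smul_eq_al φ E r b) (fun r b => smul_eq_al φ E1 r b)
    (fun r b => smul_eq_al (intφ φ) E r b) (fun r b => smul_eq_al (intφ φ) E1 r b)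
    (fun r => al_nat φ g r) (fun r => rfl) (fun r => rfl) (fun c => rfl)
    Subtype.val_injective Subtype.val_injective
    (fun b hb => ⟨⟨b, (mem_intSub_iff φ hE b).2 hb⟩, rfl⟩)
    (fun c => (mem_intSub_iff φ hE1 c.1).1 c.2) h1

end K617.IntSub
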