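import Groth.Agent.AlgSp.K617.LocFreeAlg
import Groth.Agent.AlgSp.K644.Chart
import Mathlib.Algebra.Category.ModuleCat.Sheaf.LocallyFree

/-!
# Finite locally free modules on the small étale site and their sections over affine objects
-/

set_option autoImplicit false
universe w v d u

open CategoryTheory CategoryTheory.Limits AlgebraicGeometry Opposite

namespace K617.LocFree

open Groth.Agent.Etbase.FFExact K644.Site K644.Psh K644.Alg K644.Colim K644.Exact K644.Free
  K644.Slice K644.Pres K644.Local K617.LocFreeAlg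

section general

variable {D : Type d} [Category.{v} D] {J : GrothendieckTopology D} {T : D ⥤ Scheme.{u}}
  {R : Sheaf J RingCat.{u + 1}} [HasSheafify J AddCommGrpCat.{u + 1}]
  [J.WEqualsLocallyBijective AddCommGrpCat.{u + 1}]
  [HasPullbacks D] [PreservesLimitsOfShape WalkingCospan T] [QCSite J T]
  [Str T R.obj]

omit [HasSheafify J AddCommGrpCat.{u + 1}] [J.WEqualsLocallyBijective AddCommGrpCat.{u + 1}]
  [HasPullbacks D] [PreservesLimitsOfShape WalkingCospan T] [QCSite J T] in
theorem bijective_smap {M N : SheafOfModules.{u + 1} R} (φ : M ⟶ N) [IsIso φ] (U : D) :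
    Function.Bijective (smap T φ U) := by
  constructor
  · intro x y hxy
    have h := congrArg (smap T (inv φ) U) hxy
    rw [← smap_comp, ← smap_comp, IsIso.hom_inv_id] at h
    exact h
  · intro y
    refine ⟨smap T (inv φ) U y, ?_⟩
    rw [← smap_comp, IsIso.inv_hom_id]
    rfl

/-- Sections of a free module over affine objects. -/
theorem free_sec {M : SheafOfModules.{u + 1} R} (σ : M.GeneratingSections) [IsIso σ.π] (U : D)
    (hU : IsAffine (T.obj U)) : Module.Free Γ(T.obj U, ⊤) (sec M U) :=
  Module.Free.of_equiv ((LinearEquiv.ofBijective _ (bijective_free T R σ.I U hU)).trans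
    (LinearEquiv.ofBijective (smap T σ.π U) (bijective_smap σ.π U)))

theorem finite_sec' {M : SheafOfModules.{u + 1} R} (σ : M.GeneratingSections) [IsIso σ.π] [σ.IsFiniteType]
    (U : D) (hU : IsAffine (T.obj U)) : Module.Finite Γ(T.obj U, ⊤) (sec M U) :=
  Module.Finite.equiv ((LinearEquiv.ofBijective _ (bijective_free T R σ.I U hU)).trans
    (LinearEquiv.ofBijective (smap T σ.π U) (bijective_smap σ.π U)))

/-- Modules with free sections over an affine terminal object are free. -/
theorem exists_isIso_π {t : D} (ht : IsTerminal t) (hta : IsAffine (T.obj t))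
    {M : SheafOfModules.{u + 1} R} (hM : IsQC T M.val) [Module.Finite Γ(T.obj t, ⊤) (sec M t)]
    [Module.Free Γ(T.obj t, ⊤) (sec M t)] :
    ∃ σ : M.GeneratingSections, σ.IsFiniteType ∧ IsIso σ.π := by
  let b := Module.Free.chooseBasis Γ(T.obj t, ⊤) (sec M t)
  let I := Module.Free.ChooseBasisIndex Γ(T.obj t, ⊤) (sec M t)
  have hI : Finite I := inferInstance
  let σ := genOf ht hta hM (I := I) b b.span_eq
  refine ⟨σ, ⟨hI⟩, isIso_of_affine (T := T) _ fun U hU => ?_⟩
  have h1 : (smap T σ.π U).comp (Finsupp.linearCombination Γ(T.obj U, ⊤) (fun i : I => basisAt R U i)) =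
      Finsupp.linearCombination Γ(T.obj U, ⊤) (fun i => res M (ht.from U) (b i)) := by
    refine Finsupp.lhom_ext' fun i => LinearMap.ext_ring ?_
    rw [LinearMap.comp_apply, LinearMap.comp_apply, LinearMap.comp_apply, Finsupp.lsingle_apply,
      Finsupp.linearCombination_single, one_smul, Finsupp.linearCombination_single, one_smul]
    exact secAt_π _ i U
  have h2 := bijective_of_basis (hM (ht.from U) hU hta) b
  have h3 := bijective_free T R I U hU
  have h4 : Function.Bijective ((smap T σ.π U).comp
      (Finsupp.linearCombination Γ(T.obj U, ⊤) (fun i : I => basisAt R U i))) := by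
    rw [h1]
    exact h2
  exact (Function.Bijective.of_comp_iff _ h3).1 h4

end general

section et

open AlgSp K644.EtSite K644.Chart K644.QCoh

variable {S : Scheme.{u}} {X : Sp S}

/-- Affine objects around a point mapping to one of the members of a covering of the site. -/
theorem exists_affine_of_coversTop {I : Type*} {Y : I → EtOver X} (hY : (etTop X).CoversTop Y) (E : EtOver X)
    (x : sch E) : ∃ (E' : EtOver X) (g : E' ⟶ E) (i : I) (_ : E' ⟶ Y i) (y : sch E'),
      IsAffine (sch E') ∧ mor g y = x := by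
  obtain ⟨E', g, y, hg, haff, hy⟩ := exists_affine_of_mem (hY E) x
  obtain ⟨i, ⟨p⟩⟩ := (Sieve.mem_ofObjects_iff ..).mp hg
  exact ⟨E', g, i, p, y, haff, hy⟩

/-- Sections of a finite locally free module over the affine objects mapping to a trivializing covering. -/
theorem free_finite_of_data {M : ModEt X} (q : SheafOfModules.LocalGeneratorsData.{u + 1} M)
    (h1 : q.IsLocallyFreeData) (h2 : q.IsFiniteType) (i : q.I) {E : EtOver X} (hE : IsAffine (sch E))
    (p : E ⟶ q.X i) : Module.Free Γ(sch E, ⊤) (M.val.presheaf.obj (op E)) ∧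
      Module.Finite Γ(sch E, ⊤) (M.val.presheaf.obj (op E)) := by
  have h3 := h2.isFiniteType i
  exact ⟨free_sec (T := oT (EtOver.toScheme X) (q.X i)) (q.generators i) (Over.mk p) hE,
    finite_sec' (T := oT (EtOver.toScheme X) (q.X i)) (q.generators i) (Over.mk p) hE⟩

/-- Modules cartesian on affine objects with finite projective sections are finite locally free. -/
theorem exists_data {M : ModEt X} (hM : IsCart M)
    (H : ∀ E : EtOver X, IsAffine (sch E) → Module.FinitePresentation Γ(sch E, ⊤) (M.val.presheaf.obj (op E)) ∧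
      Module.Flat Γ(sch E, ⊤) (M.val.presheaf.obj (op E))) :
    ∃ q : SheafOfModules.LocalGeneratorsData.{u + 1} M, q.IsLocallyFreeData ∧ q.IsFiniteType := by
  have hM' := (isCart_iff_isQC M).1 hM
  let I : Type (u + 1) := {E : EtOver X // IsAffine (sch E) ∧ Module.Free Γ(sch E, ⊤) (M.val.presheaf.obj (op E)) ∧
    Module.Finite Γ(sch E, ⊤) (M.val.presheaf.obj (op E))}
  have key : ∀ E : I, ∃ σ : (M.over E.1).GeneratingSections, σ.IsFiniteType ∧ IsIso σ.π := by
    rintro ⟨E, hE, h1, h2⟩
    have h1' : Module.Free Γ((oT (EtOver.toScheme X) E).obj (Over.mk (𝟙 E)), ⊤)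
      (sec (M.over E) (Over.mk (𝟙 E))) := h1
    have h2' : Module.Finite Γ((oT (EtOver.toScheme X) E).obj (Over.mk (𝟙 E)), ⊤)
      (sec (M.over E) (Over.mk (𝟙 E))) := h2
    exact exists_isIso_π (T := oT (EtOver.toScheme X) E) (t := Over.mk (𝟙 E)) Over.mkIdTerminal hE
      (isQC_over hM' E)
  have hcov : (etTop X).CoversTop (fun E : I => E.1) := by
    intro U
    rw [mem_etTop_iff]
    intro x
    obtain ⟨E, g, y, -, hE, hy⟩ := exists_affine_of_mem (R := (⊤ : Sieve U))
      (GrothendieckTopology.top_mem _ _) x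
    obtain ⟨h1, h2⟩ := H E hE
    obtain ⟨r, hr, hfree⟩ := exists_free_away (A := Γ(sch E, ⊤)) (N := M.val.presheaf.obj (op E))
      ((sch E).toSpecΓ y)
    have hyr : y ∈ (sch E).basicOpen r := by
      rw [← Scheme.toSpecΓ_preimage_basicOpen]
      exact hr
    let V := (sch E).basicOpen r
    let E' := ofEt E V.ι inferInstance
    have hE' : IsAffine (sch E') := (isAffineOpen_top (sch E)).basicOpen r
    have hbc := hM (ofEtHom E V.ι inferInstance) hE hE'
    have hu : IsUnit ((mor (ofEtHom E V.ι inferInstance)).appTop.hom r) := by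
      change IsUnit (V.ι.appTop.hom r)
      have h5 : IsUnit ((sch E).presheaf.map (homOfLE ((sch E).basicOpen_le r)).op r) :=
        RingedSpace.isUnit_res_basicOpen _ r
      have h6 : V.ι ''ᵁ ⊤ ≤ V := by simp
      have h7 := h5.map ((sch E).presheaf.map (homOfLE h6).op).hom
      rw [Scheme.Opens.ι_appTop]
      rw [← CommRingCat.comp_apply, ← Functor.map_comp] at h7
      exact h7
    obtain ⟨hf1, hf2⟩ := hfree _ _ _ _ hu hbc
    refine ⟨E', ofEtHom E V.ι inferInstance ≫ g, ⟨y, hyr⟩, ?_, ?_⟩
    · exact (Sieve.mem_ofObjects_iff ..).mpr ⟨⟨E', hE', hf1, hf2⟩, ⟨𝟙 _⟩⟩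
    · change mor g (V.ι ⟨y, hyr⟩) = x
      rw [← hy]
      rfl
  choose σ hσ1 hσ2 using key
  let q : SheafOfModules.LocalGeneratorsData.{u + 1} M :=
    SheafOfModules.LocalGeneratorsData.mk (M := M) I (fun E => E.1) hcov σ
  exact ⟨q, SheafOfModules.LocalGeneratorsData.IsLocallyFreeData.mk (q := q) hσ2,
    SheafOfModules.LocalGeneratorsData.IsFiniteType.mk (p := q) hσ1⟩

end et

end K617.LocFree
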