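import Groth.Agent.Etbase.FFExact
import Mathlib.RingTheory.TensorProduct.IsBaseChangeFree
import Mathlib.RingTheory.Spectrum.Prime.FreeLocus
import Mathlib.RingTheory.LocalRing.Module

/-!
# Bases and base change along ring homomorphisms; finite projective modules are locally free
-/

set_option autoImplicit false
universe u v w
open TensorProduct

namespace K617.LocFreeAlg

open Groth.Agent.Etbase.FFExact

/-- The base change of a basis is a basis. -/
theorem bijective_of_basis {A B : Type*} [CommRing A] [CommRing B] {φ : A →+* B}
    {M M' : Type*} [AddCommGroup M] [AddCommGroup M'] [Module A M] [Module B M'] {ψ : M →+ M'}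
    (h : IsBC φ ψ) {I : Type*} (b : Module.Basis I A M) :
    Function.Bijective (Finsupp.linearCombination B (fun i => ψ (b i))) := by
  obtain ⟨h1, h2⟩ := h
  let _ := φ.toAlgebra
  let _ : Module A M' := Module.compHom M' φ
  have : IsScalarTower A B M' := ⟨fun a b m => by
    change (φ a * b) • m = φ a • b • m
    rw [mul_smul]⟩
  let b' := h2.basis b
  have hb' : (fun i => ψ (b i)) = b' := by
    funext i
    exact (h2.basis_apply b i).symm
  rw [hb']
  exact ⟨b'.linearIndependent, by
    rw [← LinearMap.range_eq_top, Finsupp.range_linearCombination]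
    exact b'.span_eq⟩

/-- The base change of a free module is free. -/
theorem free_of_isBC {A B : Type*} [CommRing A] [CommRing B] {φ : A →+* B}
    {M M' : Type*} [AddCommGroup M] [AddCommGroup M'] [Module A M] [Module B M'] {ψ : M →+ M'}
    (h : IsBC φ ψ) [Module.Free A M] : Module.Free B M' :=
  Module.Free.of_equiv (LinearEquiv.ofBijective _ (bijective_of_basis h (Module.Free.chooseBasis A M)))

/-- The base change of a finite module is finite. -/
theorem finite_of_isBC {A B : Type*} [CommRing A] [CommRing B] {φ : A →+* B}
    {M M' : Type*} [AddCommGroup M] [AddCommGroup M'] [Module A M] [Module B M'] {ψ : M →+ M'}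
    (h : IsBC φ ψ) [Module.Finite A M] : Module.Finite B M' := by
  obtain ⟨h1, h2⟩ := h
  let _ := φ.toAlgebra
  let _ : Module A M' := Module.compHom M' φ
  have : IsScalarTower A B M' := ⟨fun a b m => by
    change (φ a * b) • m = φ a • b • m
    rw [mul_smul]⟩
  exact Module.Finite.equiv h2.equiv

/-- Around every prime, the base changes of a finite projective module are free. -/
theorem exists_free_away {A : Type u} [CommRing A] {N : Type v} [AddCommGroup N] [Module A N]
    [Module.FinitePresentation A N] [Module.Flat A N] (p : PrimeSpectrum A) :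
    ∃ r, r ∉ p.asIdeal ∧ ∀ (B : Type u) (N' : Type v) [CommRing B] [AddCommGroup N'] [Module B N']
      (φ : A →+* B) (ψ : N →+ N'), IsUnit (φ r) → IsBC φ ψ → Module.Free B N' ∧ Module.Finite B N' := by
  have hfree : Module.Free (Localization.AtPrime p.asIdeal)
      (LocalizedModule p.asIdeal.primeCompl N) := Module.free_of_flat_of_isLocalRing
  obtain ⟨r, hr, hr', _⟩ := Module.FinitePresentation.exists_free_localizedModule_powers
    p.asIdeal.primeCompl (LocalizedModule.mkLinearMap p.asIdeal.primeCompl N)
    (Localization.AtPrime p.asIdeal)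
  refine ⟨r, hr, fun B N' _ _ _ φ ψ hu h => ⟨?_, finite_of_isBC h⟩⟩
  obtain ⟨h1, h2⟩ := h
  let _ := φ.toAlgebra
  let _ : Module A N' := Module.compHom N' φ
  have : IsScalarTower A B N' := ⟨fun a b m => by
    change (φ a * b) • m = φ a • b • m
    rw [mul_smul]⟩
  let lam : Localization.Away r →+* B := IsLocalization.Away.lift r hu
  have hlam : ∀ a, lam (algebraMap A _ a) = φ a := IsLocalization.Away.lift_eq r hu
  let _ : Algebra (Localization.Away r) B := lam.toAlgebra
  have : IsScalarTower A (Localization.Away r) B := IsScalarTower.of_algebraMap_eq' (RingHom.ext fun a => (hlam a).symm)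
  let _ : Module (Localization.Away r) N' := Module.compHom N' lam
  have : IsScalarTower (Localization.Away r) B N' := ⟨fun a b m => by
    change (lam a * b) • m = lam a • b • m
    rw [mul_smul]⟩
  have : IsScalarTower A (Localization.Away r) N' := ⟨fun a b m => by
    change (lam (a • b)) • m = φ a • lam b • m
    rw [Algebra.smul_def, map_mul, hlam, mul_smul]⟩
  have hbc := IsLocalizedModule.isBaseChange (.powers r) (Localization.Away r)
    (LocalizedModule.mkLinearMap (.powers r) N)
  let ψ' : N →ₗ[A] N' := { toFun := ψ, map_add' := ψ.map_add, map_smul' := h1 }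
  let g : LocalizedModule.Away r N →ₗ[Localization.Away r] N' := hbc.lift ψ'
  have hg : (g.restrictScalars A).comp (LocalizedModule.mkLinearMap (.powers r) N) = ψ' := hbc.lift_comp ψ'
  have hgb : IsBaseChange B g := by
    refine IsBaseChange.of_comp hbc ?_
    rw [hg]
    exact h2
  exact Module.Free.of_equiv ((hgb.basis (Module.Free.chooseBasis (Localization.Away r)
    (LocalizedModule.Away r N))).repr.symm)

end K617.LocFreeAlg
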