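import Groth.Agent.AlgSp.K626.GammaDom
import Groth.Agent.AlgSp.K609.QC
import Groth.Agent.AlgSp.K596.QC
import Groth.Agent.AlgSp.K596.Univ
import Groth.Agent.AlgSp.K610.Base
import Groth.Prelude.Def_AlgSp4
import Mathlib.RingTheory.Spectrum.Prime.Topology
import Mathlib.RingTheory.PolynomialAlgebra

/-!
# Global functions of a space universally closed over an affine scheme are integral
-/

set_option autoImplicit false
universe u
open CategoryTheory CategoryTheory.Limits AlgebraicGeometry Opposite AlgSp TopologicalSpace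

namespace K617.MonicEq

section Alg

open Polynomial PrimeSpectrum

/-- The argument of `PrimeSpectrum.isIntegral_of_isClosedMap_comap_mapRingHom` for one element. -/
theorem isIntegralElem_of_isClosed {R A : Type*} [CommRing R] [CommRing A] (f : R →+* A) (r : A)
    (H : IsClosed (comap (mapRingHom f) '' zeroLocus {C r * X - 1})) : f.IsIntegralElem r := by
  rcases subsingleton_or_nontrivial A with hA | hA
  · exact ⟨1, monic_one, Subsingleton.elim _ _⟩
  have hR : Nontrivial R := f.domain_nontrivial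
  algebraize [f]
  let p : A[X] := C r * X - 1
  have : (1 : R[X]) ∈ Ideal.span {X} ⊔ (Ideal.span {p}).comap (mapRingHom f) := by
    rw [← zeroLocus_span, ← closure_eq_iff_isClosed, closure_image_comap_zeroLocus] at H
    rw [← Ideal.eq_top_iff_one, sup_comm, ← zeroLocus_empty_iff_eq_top, zeroLocus_sup, H]
    suffices ∀ (a : PrimeSpectrum A[X]), p ∈ a.asIdeal → X ∉ a.asIdeal by
      simpa [Set.eq_empty_iff_forall_notMem]
    intro q hpq hXq
    have : 1 ∈ q.asIdeal := by simpa [p] using! (sub_mem (q.asIdeal.mul_mem_left (C r) hXq) hpq)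
    exact q.2.ne_top (q.asIdeal.eq_top_iff_one.mpr this)
  obtain ⟨a, b, hb, e⟩ := Ideal.mem_span_singleton_sup.mp this
  obtain ⟨c, hc : b.map (algebraMap R A) = _⟩ := Ideal.mem_span_singleton.mp hb
  refine ⟨b.reverse * X ^ (1 + c.natDegree), ?_, ?_⟩
  · refine Monic.mul ?_ (by simp)
    have h : b.coeff 0 = 1 := by simpa using! congr(($e).coeff 0)
    have : b.natTrailingDegree = 0 := by simp [h]
    rw [Monic.def, reverse_leadingCoeff, trailingCoeff, this, h]
  · have : p.natDegree ≤ 1 := by simpa using! natDegree_linear_le (a := r) (b := -1)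
    change eval₂ (algebraMap R A) _ _ = 0
    rw [eval₂_eq_eval_map, reverse, Polynomial.map_mul, ← reflect_map, Polynomial.map_pow,
      map_X, ← revAt_zero (1 + _), ← reflect_monomial,
      ← reflect_mul _ _ natDegree_map_le (by simp), pow_zero, mul_one, hc,
      ← add_assoc, reflect_mul _ _ (this.trans (by simp)) le_rfl,
      eval_mul, reflect_sub, reflect_mul _ _ (by simp) (by simp)]
    simp [← pow_succ']

end Alg

variable {S : Scheme.{u}} {F : Sp S}

open K626.GammaDom

/-- The values of a global function at two `T`-points of a chart which agree in `X`. -/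
theorem appTop_ev_eq (E : EtOver F) (s : ↥(gsectEt (OEt F))) {Q : Over S} (a b : Q ⟶ E.obj.left)
    (h : (yon S).map a ≫ E.obj.hom = (yon S).map b ≫ E.obj.hom) :
    a.left.appTop.hom (ev E s) = b.left.appTop.hom (ev E s) := by
  let k : Q ⟶ (EtOver.prodObj E E).obj.left := E.property.1.lift' b a h.symm
  have h1 : k ≫ (EtOver.prodFst E E).hom.left = a := Functor.relativelyRepresentable.lift'_snd _ _ _ _
  have h2 : k ≫ (EtOver.prodSnd E E).hom.left = b := Functor.relativelyRepresentable.lift'_fst _ _ _ _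
  rw [← h1, ← h2, Over.comp_left, Over.comp_left, Scheme.Hom.comp_appTop, Scheme.Hom.comp_appTop]
  change k.left.appTop.hom ((EtOver.prodFst E E).hom.left.left.appTop.hom (ev E s)) =
    k.left.appTop.hom ((EtOver.prodSnd E E).hom.left.left.appTop.hom (ev E s))
  rw [ev_map, ev_map]

/-- membership in a prime of the image of a point under a morphism to an affine scheme -/
theorem mem_asIdeal_iff {B : CommRingCat.{u}} {Q : Scheme.{u}} (α : Q ⟶ Spec B) (z : Q) (g : B) :
    g ∈ (α z : PrimeSpectrum B).asIdeal ↔ z ∉ Q.basicOpen (α.appTop.hom ((Scheme.ΓSpecIso B).inv.hom g)) := by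
  have h := Scheme.preimage_basicOpen_top α ((Scheme.ΓSpecIso B).inv.hom g)
  have h2 : (Spec B).basicOpen ((Scheme.ΓSpecIso B).inv.hom g) = PrimeSpectrum.basicOpen g :=
    basicOpen_eq_of_affine g
  rw [h2] at h
  have h3 : z ∈ Q.basicOpen (α.appTop.hom ((Scheme.ΓSpecIso B).inv.hom g)) ↔
      z ∈ α ⁻¹ᵁ (PrimeSpectrum.basicOpen g) := by
    rw [h]
  rw [h3]
  exact (not_not (a := g ∈ (α z : PrimeSpectrum B).asIdeal)).symm

open Polynomial in
/-- the affine line over an affine scheme over `S` -/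
noncomputable def line (V : Over S) [IsAffine V.left] : Over S :=
  Over.mk (Spec.map (CommRingCat.ofHom (C : Γ(V.left, ⊤) →+* Γ(V.left, ⊤)[X])) ≫ V.left.isoSpec.inv ≫ V.hom)

open Polynomial in
/-- the projection of the affine line -/
noncomputable def lineπ (V : Over S) [IsAffine V.left] : line V ⟶ V :=
  Over.homMk (Spec.map (CommRingCat.ofHom (C : Γ(V.left, ⊤) →+* Γ(V.left, ⊤)[X])) ≫ V.left.isoSpec.inv) (by
    simp [line])

open Polynomial in
/-- functoriality of the affine line -/
noncomputable def lineMap {U V : Over S} [IsAffine U.left] [IsAffine V.left] (q : U ⟶ V) : line U ⟶ line V :=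
  Over.homMk (Spec.map (CommRingCat.ofHom (mapRingHom q.left.appTop.hom))) (by
    change Spec.map _ ≫ Spec.map _ ≫ V.left.isoSpec.inv ≫ V.hom = Spec.map _ ≫ U.left.isoSpec.inv ≫ U.hom
    have h1 : Spec.map (CommRingCat.ofHom (mapRingHom q.left.appTop.hom)) ≫
        Spec.map (CommRingCat.ofHom (C : Γ(V.left, ⊤) →+* Γ(V.left, ⊤)[X])) =
        Spec.map (CommRingCat.ofHom (C : Γ(U.left, ⊤) →+* Γ(U.left, ⊤)[X])) ≫ Spec.map q.left.appTop := by
      rw [← Spec.map_comp, ← Spec.map_comp]
      congr 1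
      ext x
      simp
    rw [reassoc_of% h1, Scheme.isoSpec_inv_naturality_assoc, Over.w q])

open Polynomial in
theorem isPushout_poly {R A : Type u} [CommRing R] [CommRing A] (φ : R →+* A) :
    IsPushout (CommRingCat.ofHom φ) (CommRingCat.ofHom (C : R →+* R[X])) (CommRingCat.ofHom (C : A →+* A[X]))
      (CommRingCat.ofHom (mapRingHom φ)) := by
  algebraize [φ, Polynomial.mapRingHom φ]
  exact CommRingCat.isPushout_of_isPushout R A R[X] A[X]

open Polynomial in
theorem isPullback_line {U V : Over S} [IsAffine U.left] [IsAffine V.left] (q : U ⟶ V) :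
    IsPullback (lineMap q) (lineπ U) (lineπ V) q := by
  have h1 : IsPushout q.left.appTop (CommRingCat.ofHom (C : Γ(V.left, ⊤) →+* Γ(V.left, ⊤)[X]))
      (CommRingCat.ofHom (C : Γ(U.left, ⊤) →+* Γ(U.left, ⊤)[X]))
      (CommRingCat.ofHom (mapRingHom q.left.appTop.hom)) := isPushout_poly q.left.appTop.hom
  have h2 := isPullback_SpecMap_of_isPushout _ _ _ _ h1
  have h3 : IsPullback (Spec.map q.left.appTop) U.left.isoSpec.inv V.left.isoSpec.inv q.left :=
    IsPullback.of_vert_isIso ⟨Scheme.isoSpec_inv_naturality q.left⟩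
  have h4 := h2.flip.paste_vert h3
  refine K596.Univ.isPullback_over ?_ h4
  ext1
  exact h4.w

theorem ΓSpecIso_inv_comp {B B' : CommRingCat.{u}} (ψ : B ⟶ B') {Q : Scheme.{u}} (α : Q ⟶ Spec B') :
    (Scheme.ΓSpecIso B).inv ≫ (α ≫ Spec.map ψ).appTop = ψ ≫ (Scheme.ΓSpecIso B').inv ≫ α.appTop := by
  rw [Scheme.Hom.comp_appTop, ← Scheme.ΓSpecIso_inv_naturality_assoc]

theorem isoSpec_inv_appTop (Y : Scheme.{u}) [IsAffine Y] :
    Y.isoSpec.inv.appTop = (Scheme.ΓSpecIso Γ(Y, ⊤)).inv := by
  rw [← cancel_mono (Scheme.ΓSpecIso Γ(Y, ⊤)).hom, Iso.inv_hom_id]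
  rw [← Scheme.toSpecΓ_appTop, ← Scheme.Hom.comp_appTop, Scheme.toSpecΓ_isoSpec_inv]
  rfl

open Polynomial in
/-- Two points of the affine line over `A` with the same image in the affine line over `R` and the same value of `r`
both lie on `r T = 1` or not. -/
theorem mem_hyperbola {R A : Type u} [CommRing R] [CommRing A] (φ : R →+* A) (r : A) {Q : Scheme.{u}}
    (α β : Q ⟶ Spec (CommRingCat.of A[X])) (z : Q)
    (h1 : α ≫ Spec.map (CommRingCat.ofHom (mapRingHom φ)) = β ≫ Spec.map (CommRingCat.ofHom (mapRingHom φ)))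
    (h2 : ((Scheme.ΓSpecIso (CommRingCat.of A)).inv ≫ (α ≫ Spec.map (CommRingCat.ofHom (C : A →+* A[X]))).appTop).hom r =
      ((Scheme.ΓSpecIso (CommRingCat.of A)).inv ≫ (β ≫ Spec.map (CommRingCat.ofHom (C : A →+* A[X]))).appTop).hom r)
    (h : (C r * X - 1 : A[X]) ∈ (β z : PrimeSpectrum A[X]).asIdeal) :
    (C r * X - 1 : A[X]) ∈ (α z : PrimeSpectrum A[X]).asIdeal := by
  have h3 : ((Scheme.ΓSpecIso (CommRingCat.of A[X])).inv ≫ α.appTop).hom (C r) =
      ((Scheme.ΓSpecIso (CommRingCat.of A[X])).inv ≫ β.appTop).hom (C r) := by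
    rw [ΓSpecIso_inv_comp, ΓSpecIso_inv_comp] at h2
    exact h2
  have h4 : ((Scheme.ΓSpecIso (CommRingCat.of A[X])).inv ≫ α.appTop).hom (X : A[X]) =
      ((Scheme.ΓSpecIso (CommRingCat.of A[X])).inv ≫ β.appTop).hom (X : A[X]) := by
    have h5 := congrArg (fun k => ((Scheme.ΓSpecIso (CommRingCat.of R[X])).inv ≫ k.appTop).hom (X : R[X])) h1
    dsimp only at h5
    rw [ΓSpecIso_inv_comp, ΓSpecIso_inv_comp] at h5
    have h6 : (CommRingCat.ofHom (mapRingHom φ)).hom (X : R[X]) = (X : A[X]) := by simp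
    rw [CommRingCat.hom_comp, CommRingCat.hom_comp (CommRingCat.ofHom (mapRingHom φ)), RingHom.comp_apply,
      RingHom.comp_apply, h6] at h5
    exact h5
  have h5 : ((Scheme.ΓSpecIso (CommRingCat.of A[X])).inv ≫ α.appTop).hom (C r * X - 1 : A[X]) =
      ((Scheme.ΓSpecIso (CommRingCat.of A[X])).inv ≫ β.appTop).hom (C r * X - 1 : A[X]) := by
    rw [map_sub, map_sub, map_mul, map_mul, h3, h4, map_one, map_one]
  have hb := (mem_asIdeal_iff β z (C r * X - 1 : A[X])).1 h
  refine (mem_asIdeal_iff α z (C r * X - 1 : A[X])).2 ?_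
  change z ∉ Q.basicOpen (((Scheme.ΓSpecIso _).inv ≫ β.appTop).hom (C r * X - 1 : A[X])) at hb
  rw [← h5] at hb
  exact hb

open Polynomial in
/-- Closedness of the image of a hyperbola gives an integral equation. -/
theorem isIntegralElem {V : Over S} [IsAffine V.left] (f : F ⟶ (yon S).obj V) (huc : IsUnivClosedMor f)
    {U : Over S} [IsAffine U.left] (p : (yon S).obj U ⟶ F) (hp : RepWith @Etale p) (hps : RepWith @Surjective p)
    (s : ↥(gsectEt (OEt F))) {q : U ⟶ V} (hq : (yon S).map q = p ≫ f) :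
    q.left.appTop.hom.IsIntegralElem (ev (EtOver.mk p hp) s) := by
  apply isIntegralElem_of_isClosed
  have sqP := IsPullback.of_hasPullback f ((yon S).map (lineπ V))
  have sqW := (isPullback_line q).map (yon S)
  rw [hq] at sqW
  let w : (yon S).obj (line U) ⟶ pullback f ((yon S).map (lineπ V)) :=
    pullback.lift ((yon S).map (lineπ U) ≫ p) ((yon S).map (lineMap q)) (by rw [Category.assoc, sqW.w])
  have hw1 : w ≫ pullback.fst _ _ = (yon S).map (lineπ U) ≫ p := pullback.lift_fst _ _ _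
  have hw2 : w ≫ pullback.snd _ _ = (yon S).map (lineMap q) := pullback.lift_snd _ _ _
  have sqw : IsPullback w ((yon S).map (lineπ U)) (pullback.fst f ((yon S).map (lineπ V))) p :=
    IsPullback.of_right (by rw [hw2]; exact sqW) hw1 sqP.flip
  have hw : RepWith @Etale w := MorphismProperty.of_isPullback (P := RepWith @Etale) sqw.flip hp
  have hws : RepWith @Surjective w := MorphismProperty.of_isPullback (P := RepWith @Surjective) sqw.flip hps
  have hclosed : IsClosedMap (Points.map (pullback.snd f ((yon S).map (lineπ V)))) :=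
    huc (IsAlgSpace.yon_obj _) _ _ _ sqP
  let r : Γ(U.left, ⊤) := ev (EtOver.mk p hp) s
  let g : Γ(U.left, ⊤)[X] := C r * X - 1
  let CW : Set ↥(line U).left := {x | g ∈ (x : PrimeSpectrum Γ(U.left, ⊤)[X]).asIdeal}
  have hCW : CW = PrimeSpectrum.zeroLocus {g} := by
    ext x
    exact (Set.singleton_subset_iff (a := g) (s := (x.asIdeal : Set Γ(U.left, ⊤)[X]))).symm
  have hpre : Points.ofPt w ⁻¹' (Points.ofPt w '' CW) ⊆ CW := by
    rintro x ⟨x', hx', he⟩
    obtain ⟨Q, z, a, b, rfl, rfl, hab⟩ := K610.Base.exists_common w w x x' he.symm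
    have hC : ∀ c : Q ⟶ line U, (c ≫ lineπ U).left.appTop =
        (Scheme.ΓSpecIso (CommRingCat.of Γ(U.left, ⊤))).inv ≫
          ((show Q.left ⟶ Spec (CommRingCat.of Γ(U.left, ⊤)[X]) from c.left) ≫
            Spec.map (CommRingCat.ofHom (C : Γ(U.left, ⊤) →+* Γ(U.left, ⊤)[X]))).appTop := by
      intro c
      change _ = (Scheme.ΓSpecIso Γ(U.left, ⊤)).inv ≫ _
      rw [← isoSpec_inv_appTop, ← Scheme.Hom.comp_appTop]
      congr 1
    have h1 : a ≫ lineMap q = b ≫ lineMap q := by
      apply (yon S).map_injective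
      rw [Functor.map_comp, Functor.map_comp, ← hw2, reassoc_of% hab]
    have h2 : (a ≫ lineπ U).left.appTop.hom r = (b ≫ lineπ U).left.appTop.hom r := by
      refine appTop_ev_eq (EtOver.mk p hp) s (a ≫ lineπ U) (b ≫ lineπ U) ?_
      change (yon S).map _ ≫ p = (yon S).map _ ≫ p
      rw [Functor.map_comp, Functor.map_comp, Category.assoc, Category.assoc, ← hw1, reassoc_of% hab]
    refine mem_hyperbola q.left.appTop.hom r _ b.left z (congrArg (fun k => k.left) h1) ?_ hx'
    rw [hC, hC] at h2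
    exact h2
  have hCP : IsClosed (Points.ofPt w '' CW) := by
    rw [← (K610.Base.isOpenQuotientMap_ofPt hw hws).isQuotientMap.isClosed_preimage]
    have : Points.ofPt w ⁻¹' (Points.ofPt w '' CW) = CW :=
      Set.Subset.antisymm hpre (Set.subset_preimage_image _ _)
    rw [this, hCW]
    exact PrimeSpectrum.isClosed_zeroLocus _
  have h1 := (hclosed _ hCP).preimage (Points.continuous_ofPt (𝟙 ((yon S).obj (line V))))
  have h2 : Points.ofPt (𝟙 ((yon S).obj (line V))) ⁻¹' (Points.map (pullback.snd f ((yon S).map (lineπ V))) ''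
      (Points.ofPt w '' CW)) = (lineMap q).left '' CW := by
    ext t
    constructor
    · rintro ⟨_, ⟨x, hx, rfl⟩, ht⟩
      refine ⟨x, hx, ?_⟩
      rw [← K610.Base.ofPt_comp, hw2, K609.Points.ofPt_yon_map] at ht
      exact K609.Points.ofScheme_injective _ ht
    · rintro ⟨x, hx, rfl⟩
      refine ⟨_, ⟨x, hx, rfl⟩, ?_⟩
      rw [← K610.Base.ofPt_comp, hw2]
      exact K609.Points.ofPt_yon_map _ _
  rw [h2, hCW] at h1
  exact h1

/-- Every global function of a quasi-compact space universally closed over an affine scheme satisfies a monic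
equation. -/
theorem exists_monic {V : Over S} [IsAffine V.left] (hF : IsAlgSpace F) (f : F ⟶ (yon S).obj V)
    (hqc : IsQuasiCompactMor f) (huc : IsUnivClosedMor f) (s : ↥(gsectEt (OEt F))) :
    ∃ P : Polynomial Γ(V.left, ⊤), P.Monic ∧ ∀ E : EtOver F,
      Polynomial.eval₂ ((yon S).preimage (E.obj.hom ≫ f)).left.appTop.hom (ev E s) P = 0 := by
  have hFq : IsQuasiCompactSp F :=
    hqc (IsAlgSpace.yon_obj V) (K596.QC.isQuasiCompactSp_yon V) (𝟙 _) (𝟙 _) f (IsPullback.of_horiz_isIso ⟨by simp⟩)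
  obtain ⟨U, p, hU, hp, hps⟩ := K609.QC.exists_affine_chart hFq
  obtain ⟨q, hq⟩ := (yon S).map_surjective (p ≫ f)
  obtain ⟨P, hP, hPe⟩ := isIntegralElem f huc p hp hps s hq
  refine ⟨P, hP, fun E => ?_⟩
  let E₀ : EtOver F := EtOver.mk p hp
  have hs : Surjective (EtOver.prodFst E E₀).hom.left.left := hps.2 E.obj.hom _ _ (E₀.property.1.isPullback E.obj.hom)
  have he : Etale (EtOver.prodFst E E₀).hom.left.left := EtOver.etale_left _
  have : Epi (EtOver.prodFst E E₀).hom.left.left := Flat.epi_of_flat_of_surjective _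
  have key : ∀ {E₁ E₂ : EtOver F} (g : E₁ ⟶ E₂) (q₁ : E₁.obj.left ⟶ V) (q₂ : E₂.obj.left ⟶ V),
      (yon S).map q₁ = E₁.obj.hom ≫ f → (yon S).map q₂ = E₂.obj.hom ≫ f →
      g.hom.left.left.appTop.hom (Polynomial.eval₂ q₂.left.appTop.hom (ev E₂ s) P) =
        Polynomial.eval₂ q₁.left.appTop.hom (ev E₁ s) P := by
    intro E₁ E₂ g q₁ q₂ h₁ h₂
    rw [Polynomial.hom_eval₂, ev_map]
    congr 1
    have : g.hom.left ≫ q₂ = q₁ := by
      apply (yon S).map_injective
      rw [Functor.map_comp, h₂, h₁, ← Category.assoc, EtOver.w g]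
    rw [← this, Over.comp_left, Scheme.Hom.comp_appTop]
    rfl
  apply appTop_injective (EtOver.prodFst E E₀).hom.left.left
  obtain ⟨q₁, hq₁⟩ := (yon S).map_surjective ((EtOver.prodObj E E₀).obj.hom ≫ f)
  rw [key (EtOver.prodFst E E₀) q₁ _ hq₁ ((yon S).map_preimage _), map_zero,
    ← key (EtOver.prodSnd E E₀) q₁ q hq₁ hq]
  change (EtOver.prodSnd E E₀).hom.left.left.appTop.hom
    (Polynomial.eval₂ q.left.appTop.hom (ev (EtOver.mk p hp) s) P) = 0
  rw [hPe, map_zero]

end K617.MonicEq
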