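import Groth.Agent.AlgSp.K617.PushQc
import Groth.Agent.AlgSp.K644.ChartFin
import Groth.Agent.AlgSp.K612.PullQc

/-!
# Finite type and finite presentation of direct images along finite morphisms
-/

set_option autoImplicit false
set_option backward.isDefEq.respectTransparency false
universe u

open CategoryTheory CategoryTheory.Limits AlgebraicGeometry Opposite

namespace K617.PushFin

open AlgSp K644.Chart K644.EtSite K644.Site Groth.Agent.Etbase.FFExact K648.Push K648.Basic

/-- A module over a finite algebra, finitely presented over the base, is finitely presented. -/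
theorem fp_of_restrict (R A M : Type*) [CommRing R] [CommRing A] [Algebra R A] [AddCommGroup M] [Module R M]
    [Module A M] [IsScalarTower R A M] [Module.Finite R A] [Module.FinitePresentation R M] :
    Module.FinitePresentation A M := by
  have : Module.Finite A M := Module.Finite.of_restrictScalars_finite R A M
  obtain ⟨n, l, hl⟩ := Module.Finite.exists_fin' A M
  refine Module.finitePresentation_of_surjective l hl ?_
  have h1 : (LinearMap.ker (l.restrictScalars R)).FG :=
    Module.FinitePresentation.fg_ker (l.restrictScalars R) hl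
  obtain ⟨s, hs⟩ := h1
  refine ⟨s, le_antisymm ?_ ?_⟩
  · rw [Submodule.span_le]
    intro x hx
    have : x ∈ LinearMap.ker (l.restrictScalars R) := hs ▸ Submodule.subset_span hx
    exact this
  · intro x hx
    have h2 : x ∈ Submodule.span R (s : Set (Fin n → A)) := by
      rw [hs]
      exact hx
    exact Submodule.span_subset_span R A _ h2

variable {S : Scheme.{u}} {X Y : Sp S} {f : X ⟶ Y}

theorem coversTop_affine (X : Sp S) : (etTop X).CoversTop (fun E : {E : EtOver X // IsAffine (sch E)} => E.1) :=
  K644.QCoh.coversTop_affine (T := EtOver.toScheme X) _ (fun U hU => ⟨⟨U, hU⟩, ⟨𝟙 _⟩⟩)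

theorem coversTop_bc_affine (hY : IsAlgSpace Y) (hf : Representable f) :
    (etTop X).CoversTop (fun E : {E : EtOver Y // IsAffine (sch E)} => (EtOver.bc hf).obj E.1) := by
  obtain ⟨U, p, hp, hs⟩ := hY.atlas
  exact K612.PullQc.coversTop_bc hf p hp hs _ (coversTop_affine Y)

section

variable (hf : Representable f) (hfin : IsFiniteMor f) (M : ModEt X) {E : EtOver Y} (hE : IsAffine (sch E))

include hfin hE

theorem finite_bcΓ : (bcΓ hf E).Finite := by
  have hZ := isAffine_bc hf (isAffineMor_of_isFiniteMor hfin) E hE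
  have h1 : IsFinite (EtOver.bcπ hf E).left := isFinite_bcπ hf hfin E hE
  exact ((HasAffineProperty.iff_of_isAffine (P := @IsFinite)).1 h1).2

theorem finite_push_iff :
    Module.Finite Γ(sch E, ⊤) (((pushModEt hf).obj M).val.presheaf.obj (op E)) ↔
      Module.Finite Γ(sch ((EtOver.bc hf).obj E), ⊤) (M.val.presheaf.obj (op ((EtOver.bc hf).obj E))) := by
  let := (bcΓ hf E).toAlgebra
  have : Module.Finite Γ(sch E, ⊤) Γ(sch ((EtOver.bc hf).obj E), ⊤) := finite_bcΓ hf hfin hE
  let m : Module Γ(sch E, ⊤) (M.val.presheaf.obj (op ((EtOver.bc hf).obj E))) :=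
    modSec ((pushModEt hf).obj M) E
  have : IsScalarTower Γ(sch E, ⊤) Γ(sch ((EtOver.bc hf).obj E), ⊤)
      (M.val.presheaf.obj (op ((EtOver.bc hf).obj E))) := ⟨fun a b m => by
    change (bcΓ hf E a * b) • m = bcΓ hf E a • (b • m)
    rw [mul_smul]⟩
  constructor
  · intro h
    have h' : Module.Finite Γ(sch E, ⊤) (M.val.presheaf.obj (op ((EtOver.bc hf).obj E))) := h
    exact Module.Finite.of_restrictScalars_finite Γ(sch E, ⊤) _ _
  · intro h
    exact Module.Finite.trans Γ(sch ((EtOver.bc hf).obj E), ⊤) (M.val.presheaf.obj (op ((EtOver.bc hf).obj E)))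

theorem fp_push_of (h : Module.FinitePresentation Γ(sch E, ⊤) (((pushModEt hf).obj M).val.presheaf.obj (op E))) :
      Module.FinitePresentation Γ(sch ((EtOver.bc hf).obj E), ⊤)
        (M.val.presheaf.obj (op ((EtOver.bc hf).obj E))) := by
  let := (bcΓ hf E).toAlgebra
  have : Module.Finite Γ(sch E, ⊤) Γ(sch ((EtOver.bc hf).obj E), ⊤) := finite_bcΓ hf hfin hE
  let m : Module Γ(sch E, ⊤) (M.val.presheaf.obj (op ((EtOver.bc hf).obj E))) :=
    modSec ((pushModEt hf).obj M) E
  have : IsScalarTower Γ(sch E, ⊤) Γ(sch ((EtOver.bc hf).obj E), ⊤)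
      (M.val.presheaf.obj (op ((EtOver.bc hf).obj E))) := ⟨fun a b m => by
    change (bcΓ hf E a * b) • m = bcΓ hf E a • (b • m)
    rw [mul_smul]⟩
  have h' : Module.FinitePresentation Γ(sch E, ⊤) (M.val.presheaf.obj (op ((EtOver.bc hf).obj E))) := h
  exact fp_of_restrict Γ(sch E, ⊤) _ _

theorem fp_push (hfp : (bcΓ hf E).FinitePresentation)
    (h : Module.FinitePresentation Γ(sch ((EtOver.bc hf).obj E), ⊤)
        (M.val.presheaf.obj (op ((EtOver.bc hf).obj E)))) :
    Module.FinitePresentation Γ(sch E, ⊤) (((pushModEt hf).obj M).val.presheaf.obj (op E)) := by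
  let := (bcΓ hf E).toAlgebra
  have : Module.Finite Γ(sch E, ⊤) Γ(sch ((EtOver.bc hf).obj E), ⊤) := finite_bcΓ hf hfin hE
  have a3 : Algebra.FinitePresentation Γ(sch E, ⊤) Γ(sch ((EtOver.bc hf).obj E), ⊤) := hfp
  have : Module.FinitePresentation Γ(sch E, ⊤) Γ(sch ((EtOver.bc hf).obj E), ⊤) :=
    (Module.FinitePresentation.iff_finitePresentation_of_finite _ _).2 a3
  let m : Module Γ(sch E, ⊤) (M.val.presheaf.obj (op ((EtOver.bc hf).obj E))) :=
    modSec ((pushModEt hf).obj M) E
  have : IsScalarTower Γ(sch E, ⊤) Γ(sch ((EtOver.bc hf).obj E), ⊤)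
      (M.val.presheaf.obj (op ((EtOver.bc hf).obj E))) := ⟨fun a b m => by
    change (bcΓ hf E a * b) • m = bcΓ hf E a • (b • m)
    rw [mul_smul]⟩
  exact Module.FinitePresentation.trans (R := Γ(sch E, ⊤)) (M := M.val.presheaf.obj (op ((EtOver.bc hf).obj E)))
    Γ(sch ((EtOver.bc hf).obj E), ⊤)

end

/-- Finite type for direct images along finite morphisms. -/
theorem isFiniteType_iff (hY : IsAlgSpace Y) (hf : Representable f) (hfin : IsFiniteMor f) (M : ModEt X)
    [M.IsQuasicoherent] : M.IsFiniteType ↔ ((pushModEt hf).obj M).IsFiniteType := by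
  have haff := isAffineMor_of_isFiniteMor hfin
  have := K617.PushQc.isQuasicoherent_push hf haff M
  constructor
  · intro h
    rw [K644.ChartFin.isFiniteType_iff] at h ⊢
    intro E hE
    exact (finite_push_iff hf hfin M hE).2 (h _ (isAffine_bc hf haff E hE))
  · intro h
    rw [K644.ChartFin.isFiniteType_iff] at h
    have h1 : ∀ E : {E : EtOver Y // IsAffine (sch E)},
        Module.Finite Γ(sch ((EtOver.bc hf).obj E.1), ⊤) (M.val.presheaf.obj (op ((EtOver.bc hf).obj E.1))) :=
      fun E => (finite_push_iff hf hfin M E.2).1 (h E.1 E.2)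
    exact K644.ChartFin.isFiniteType_of_family M (I := {E : EtOver Y // IsAffine (sch E)})
      (fun E => (EtOver.bc hf).obj E.1) (fun E => isAffine_bc hf haff E.1 E.2)
      (coversTop_bc_affine hY hf) h1

/-- Finite presentation for direct images along finite morphisms. -/
theorem isFinitePresentation_of_push (hY : IsAlgSpace Y) (hf : Representable f) (hfin : IsFiniteMor f)
    (M : ModEt X) [M.IsQuasicoherent] (h : ((pushModEt hf).obj M).IsFinitePresentation) :
    M.IsFinitePresentation := by
  have haff := isAffineMor_of_isFiniteMor hfin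
  have h' := ((K644.ChartFin.isFinitePresentation_iff _).1 h).2
  have h1 : ∀ E : {E : EtOver Y // IsAffine (sch E)},
      Module.FinitePresentation Γ(sch ((EtOver.bc hf).obj E.1), ⊤)
        (M.val.presheaf.obj (op ((EtOver.bc hf).obj E.1))) :=
    fun E => fp_push_of hf hfin M E.2 (h' E.1 E.2)
  exact K644.ChartFin.isFinitePresentation_of_family M (I := {E : EtOver Y // IsAffine (sch E)})
    (fun E => (EtOver.bc hf).obj E.1) (fun E => isAffine_bc hf haff E.1 E.2)
    (coversTop_bc_affine hY hf) h1

/-- Finite presentation for direct images along finite morphisms of finite presentation. -/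
theorem isFinitePresentation_push (hf : Representable f) (hfin : IsFiniteMor f)
    (hfp : ∀ E : EtOver Y, IsAffine (sch E) → (bcΓ hf E).FinitePresentation)
    (M : ModEt X) [h : M.IsFinitePresentation] : ((pushModEt hf).obj M).IsFinitePresentation := by
  have haff := isAffineMor_of_isFiniteMor hfin
  obtain ⟨h1, h2⟩ := (K644.ChartFin.isFinitePresentation_iff _).1 h
  exact (K644.ChartFin.isFinitePresentation_iff _).2 ⟨K617.PushQc.isCart_push hf haff h1,
    fun E hE => fp_push hf hfin M hE (hfp E hE) (h2 _ (isAffine_bc hf haff E hE))⟩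

end K617.PushFin
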