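import Groth.Agent.AlgSp.K617.FinLoc
import Groth.Agent.AlgSp.K610.Factor
import Groth.Prelude.Def_AlgSpSub

/-!
# The normalization in a reduced space is reduced
-/

set_option autoImplicit false
universe u
open CategoryTheory CategoryTheory.Limits AlgebraicGeometry Opposite AlgSp

namespace K617.RedNorm

variable {S : Scheme.{u}}

theorem isReducedSp_of_iso {F G : Sp S} (i : F ⟶ G) [IsIso i] (h : IsReducedSp F) : IsReducedSp G := by
  obtain ⟨U, p, hp, hs, hU⟩ := h
  refine ⟨U, p ≫ i, ?_, ?_, hU⟩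
  · exact ((RepWith @Etale).cancel_right_of_respectsIso p i).2 hp
  · exact ((RepWith @Surjective).cancel_right_of_respectsIso p i).2 hs

/-- A retraction argument: a factorization of `f' : Y ⟶ X'` through a monomorphism `i : Z ⟶ X'` which is integral
forces `i` to be an isomorphism. -/
theorem isIso_of_relNormalization {Y X X' Z : Sp S} {f : Y ⟶ X} {ν : X' ⟶ X} {f' : Y ⟶ X'}
    (hX' : IsAlgSpace X') (hZ : IsAlgSpace Z)
    (hn : IsRelNormalization f ν f') (i : Z ⟶ X') [Mono i] (hi : IsIntegralMor (i ≫ ν)) (g : Y ⟶ Z)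
    (hg : g ≫ i = f') : IsIso i := by
  obtain ⟨h1, h2, h3⟩ := hn
  obtain ⟨h, ⟨hh1, hh2⟩, -⟩ := h3 hZ (i ≫ ν) g hi (by rw [← Category.assoc, hg, h1])
  obtain ⟨k, -, hk⟩ := h3 hX' ν f' h2 h1
  have e1 : h ≫ i = 𝟙 X' := by
    rw [hk (h ≫ i) ⟨by rw [← Category.assoc, hh1, hg], by rw [Category.assoc, hh2]⟩,
      hk (𝟙 X') ⟨Category.comp_id _, Category.id_comp _⟩]
  have e2 : i ≫ h = 𝟙 Z := by
    rw [← cancel_mono i, Category.assoc, e1, Category.comp_id, Category.id_comp]
  exact ⟨h, e2, e1⟩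

theorem isReducedSp {Y X X' Z : Sp S} {f : Y ⟶ X} {ν : X' ⟶ X} {f' : Y ⟶ X'} (hX' : IsAlgSpace X')
    (hZ : IsAlgSpace Z) (hn : IsRelNormalization f ν f') (hY : IsReducedSp Y) (i : Z ⟶ X')
    (hi : IsRedInduced Set.univ i) : IsReducedSp X' := by
  have := K610.Factor.mono_of_isClosedImmersion hi.1
  obtain ⟨g, hg⟩ := (K610.Factor.factors_closed_iff hi.1 hY f').2 (by rw [hi.2.1]; exact Set.subset_univ _)
  have hint : IsIntegralMor (i ≫ ν) := by
    rw [K617.FinLoc.isIntegralMor_iff]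
    refine MorphismProperty.comp_mem _ _ _ ?_ (K617.FinLoc.isIntegralMor_iff.1 hn.2.1)
    exact K597.repWith_mono (fun _ _ g hg => by
      have : IsClosedImmersion g := hg
      infer_instance) hi.1
  have := isIso_of_relNormalization hX' hZ hn i hint g hg
  exact isReducedSp_of_iso i hi.2.2

end K617.RedNorm
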