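import Groth.Agent.AlgSp.K617.Strat
import Groth.Agent.AlgSp.K609.Sep
import Groth.Agent.AlgSp.K609.QC
import Mathlib.Topology.Sober
import Mathlib.AlgebraicGeometry.IdealSheaf.Subscheme

/-!
# Decent algebraic spaces have quasi-sober spaces of points
-/

set_option autoImplicit false
universe u v
open CategoryTheory CategoryTheory.Limits AlgebraicGeometry Opposite AlgSp TopologicalSpace

namespace K617.Sober

open K617.EtFin K617.Strat

/-- A closed continuous surjection with finite fibres from a quasi-sober space onto an irreducible space: the target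
has a generic point. -/
theorem exists_generic_of_closed_finite {T : Type u} {Z : Type v} [TopologicalSpace T] [TopologicalSpace Z]
    [QuasiSober T] (π : T → Z) (hc : Continuous π) (hcl : IsClosedMap π) (hs : Function.Surjective π)
    (hf : ∀ z, (π ⁻¹' {z}).Finite) [IrreducibleSpace Z] : ∃ z : Z, closure {z} = Set.univ := by
  classical
  let 𝒮 : Set (Set T) := {C | IsClosed C ∧ π '' C = Set.univ}
  have huniv : Set.univ ∈ 𝒮 := ⟨isClosed_univ, by rw [Set.image_univ, hs.range_eq]⟩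
  obtain ⟨C, -, hCmin⟩ := zorn_superset_nonempty 𝒮 (by
    intro c hc𝒮 hchain hne
    refine ⟨⋂₀ c, ⟨isClosed_sInter fun s hs => (hc𝒮 hs).1, ?_⟩, fun s hs => Set.sInter_subset_of_mem hs⟩
    refine Set.eq_univ_of_forall fun z => ?_
    -- choose the member with the smallest intersection with the fibre
    have hfin : ∀ s : Set T, (π ⁻¹' {z} ∩ s).Finite := fun s => (hf z).subset Set.inter_subset_left
    obtain ⟨s₀, hs₀, hmin⟩ : ∃ s₀ ∈ c, ∀ s ∈ c, (π ⁻¹' {z} ∩ s₀).ncard ≤ (π ⁻¹' {z} ∩ s).ncard := by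
      obtain ⟨s, hs⟩ := hne
      have := WellFounded.has_min (InvImage.wf (fun s : Set T => (π ⁻¹' {z} ∩ s).ncard)
        (wellFounded_lt (α := ℕ))) c ⟨s, hs⟩
      obtain ⟨m, hm, h⟩ := this
      exact ⟨m, hm, fun s hs => not_lt.1 (h s hs)⟩
    have h1 : ∀ s ∈ c, π ⁻¹' {z} ∩ s₀ ⊆ s := by
      intro s hs
      rcases hchain.total hs₀ hs with h | h
      · exact Set.inter_subset_right.trans h
      · have h2 : π ⁻¹' {z} ∩ s ⊆ π ⁻¹' {z} ∩ s₀ := Set.inter_subset_inter_right _ h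
        have h3 := Set.eq_of_subset_of_ncard_le h2 (hmin s hs) (hfin s₀)
        rw [← h3]
        exact Set.inter_subset_right
    have h2 : z ∈ π '' s₀ := by rw [(hc𝒮 hs₀).2]; trivial
    obtain ⟨t, ht, rfl⟩ := h2
    exact ⟨t, fun s hs => h1 s hs ⟨rfl, ht⟩, rfl⟩) _ huniv
  obtain ⟨⟨hC1, hC2⟩, hC3⟩ := hCmin
  have hirr : IsIrreducible C := by
    constructor
    · obtain ⟨z⟩ := (inferInstance : Nonempty Z)
      have : z ∈ π '' C := by rw [hC2]; trivial
      obtain ⟨t, ht, -⟩ := this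
      exact ⟨t, ht⟩
    · rw [isPreirreducible_iff_isClosed_union_isClosed]
      intro A B hA hB hAB
      have h1 : π '' (C ∩ A) ∪ π '' (C ∩ B) = Set.univ := by
        rw [← Set.image_union, ← Set.inter_union_distrib_left, Set.inter_eq_left.2 hAB, hC2]
      have h2 := (isPreirreducible_iff_isClosed_union_isClosed (s := (Set.univ : Set Z))).1
        (PreirreducibleSpace.isPreirreducible_univ) (π '' (C ∩ A)) (π '' (C ∩ B)) (hcl _ (hC1.inter hA))
        (hcl _ (hC1.inter hB)) (by rw [h1])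
      rcases h2 with h | h
      · left
        exact (hC3 ⟨hC1.inter hA, Set.eq_univ_of_univ_subset h⟩ Set.inter_subset_left).trans Set.inter_subset_right
      · right
        exact (hC3 ⟨hC1.inter hB, Set.eq_univ_of_univ_subset h⟩ Set.inter_subset_left).trans Set.inter_subset_right
  obtain ⟨c, hc'⟩ := QuasiSober.sober hirr hC1
  refine ⟨π c, Set.eq_univ_of_univ_subset ?_⟩
  rw [← hC2, ← hc'.def]
  exact (image_closure_subset_closure_image hc).trans (by rw [Set.image_singleton])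

variable {S : Scheme.{u}}

/-- Composing a chart with an étale morphism of schemes over `S`. -/
theorem etale_comp {X : Sp S} {U V : Over S} {p : (yon S).obj U ⟶ X} (hp : RepWith @Etale p) (i : V ⟶ U)
    (hi : Etale i.left) : RepWith @Etale ((yon S).map i ≫ p) :=
  K609.QC.repWith_yon_map_comp @Etale i hi hp

/-- Through every point over which there is a chart point there is an affine separated étale chart inside a given
open subset. -/
theorem exists_affine_chart {X : Sp S} {U₀ : Over S} (p₀ : (yon S).obj U₀ ⟶ X) (hp₀ : RepWith @Etale p₀)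
    (u₀ : ↥U₀.left) (W : Set (Points X)) (hW : IsOpen W) (hu : Points.ofPt p₀ u₀ ∈ W) :
    ∃ (U : Over S) (i : U ⟶ U₀) (u : ↥U.left), IsAffine U.left ∧ IsOpenImmersion i.left ∧ i.left u = u₀ ∧
      RepWith @Etale ((yon S).map i ≫ p₀) ∧ RepWith @IsSeparated ((yon S).map i ≫ p₀) ∧
      ∀ v, Points.ofPt ((yon S).map i ≫ p₀) v ∈ W := by
  obtain ⟨U₁, hU₁, huU, hUW⟩ := exists_isAffineOpen_mem_and_subset
    (X := U₀.left) (x := u₀) (U := ⟨Points.ofPt p₀ ⁻¹' W, hW.preimage (Points.continuous_ofPt p₀)⟩) hu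
  have : IsAffine U₁ := hU₁
  let U : Over S := Over.mk (U₁.ι ≫ U₀.hom)
  let i : U ⟶ U₀ := Over.homMk U₁.ι rfl
  have h1 : Etale i.left := inferInstanceAs (Etale U₁.ι)
  have h2 : RepWith @Etale ((yon S).map i ≫ p₀) := etale_comp hp₀ i h1
  have h3 : IsSeparated U.hom := inferInstanceAs (IsSeparated (U₁.ι ≫ U₀.hom))
  refine ⟨U, i, ⟨u₀, huU⟩, this, inferInstanceAs (IsOpenImmersion U₁.ι), rfl, h2,
    K609.Sep.repWith_isSeparated h2.1, fun v => ?_⟩
  rw [K610.Base.ofPt_map_comp]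
  exact hUW v.2

/-- In a decent space an irreducible set meeting the image of a quasi-compact étale separated chart has an exact
number of geometric points in the fibres of the chart on a non-empty open part. -/
theorem exists_level {X : Sp S} (hX : IsDecent X) {U : Over S} [IsAffine U.left] {p : (yon S).obj U ⟶ X}
    (hp : RepWith @Etale p) (hs : RepWith @IsSeparated p) {Z : Set (Points X)} (hZc : IsClosed Z)
    (hZ : ∀ A B : Set (Points X), IsOpen A → IsOpen B → (Z ∩ A).Nonempty → (Z ∩ B).Nonempty →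
      (Z ∩ (A ∩ B)).Nonempty) (hne : (Z ∩ Set.range (Points.ofPt p)).Nonempty) :
    ∃ n, (Z ∩ GEX p (n + 1)).Nonempty ∧ Z ∩ GEX p (n + 2) = ∅ := by
  by_contra hcon
  push Not at hcon
  have h1 : ∀ n, (Z ∩ GEX p (n + 1)).Nonempty := by
    intro n
    induction n with
    | zero => rw [GEX_one p hp.1]; exact hne
    | succ n ih => exact hcon n ih
  obtain ⟨_, hz, u, rfl⟩ := hne
  obtain ⟨x, -, hx⟩ := exists_mem_of_dense_opens (X := ↥U.left) (C := Points.ofPt p ⁻¹' Z)
    (hZc.preimage (Points.continuous_ofPt p)) ⟨u, hz⟩ (fun n => Points.ofPt p ⁻¹' GEX p (n + 1))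
    (fun n => (isOpen_GEX p hp hs _).preimage (Points.continuous_ofPt p)) (by
      rintro n W hW ⟨w, hw, hwZ⟩
      have h2 : (Z ∩ (Points.ofPt p '' W)).Nonempty := ⟨_, hwZ, w, hw, rfl⟩
      obtain ⟨_, h3, ⟨w', hw', rfl⟩, h4⟩ := hZ _ _ (K610.Base.isOpenMap_ofPt_etale hp _ hW)
        (isOpen_GEX p hp hs (n + 1)) h2 (h1 n)
      exact ⟨w', ⟨hw', h3⟩, h4⟩)
  obtain ⟨n, hn⟩ := exists_notMem_GEX p hp hX (Points.ofPt p x)
  exact hn (GEX_antitone p (Nat.le_succ n) (hx n))

/-- The main step: on a locally closed subset where the fibres of the chart have exactly `n + 1` geometric points the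
chart is closed with finite fibres, so an irreducible such set has a generic point. -/
theorem exists_generic {X : Sp S} {U : Over S} {p : (yon S).obj U ⟶ X}
    (hp : RepWith @Etale p) (hs : RepWith @IsSeparated p) {Z : Set (Points X)} (hZc : IsClosed Z)
    (hZ : ∀ A B : Set (Points X), IsOpen A → IsOpen B → (Z ∩ A).Nonempty → (Z ∩ B).Nonempty →
      (Z ∩ (A ∩ B)).Nonempty) (n : ℕ) (h1 : (Z ∩ GEX p (n + 1)).Nonempty) (h2 : Z ∩ GEX p (n + 2) = ∅) :
    ∃ z ∈ Z, Z ⊆ closure {z} := by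
  have hO : IsOpen (GEX p (n + 1)) := isOpen_GEX p hp hs _
  have hc := Points.continuous_ofPt p
  -- the reduced locally closed subscheme of `U` over `Z ∩ GEX p (n + 1)`
  let C : TopologicalSpace.Closeds ↥U.left := ⟨Points.ofPt p ⁻¹' Z, hZc.preimage hc⟩
  let Q := (Scheme.IdealSheafData.vanishingIdeal C).subscheme
  let ι : Q ⟶ U.left := (Scheme.IdealSheafData.vanishingIdeal C).subschemeι
  let W : Q.Opens := ι ⁻¹ᵁ ⟨Points.ofPt p ⁻¹' GEX p (n + 1), hO.preimage hc⟩
  let T : Over S := Over.mk ((W.ι ≫ ι) ≫ U.hom)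
  let i : T ⟶ U := Over.homMk (W.ι ≫ ι) rfl
  have hemb : Topology.IsEmbedding i.left := by
    change Topology.IsEmbedding (W.ι ≫ ι)
    exact Scheme.Hom.isEmbedding _
  have hιr : Set.range ι = Points.ofPt p ⁻¹' Z := by
    rw [Scheme.IdealSheafData.range_subschemeι, Scheme.IdealSheafData.coe_support_vanishingIdeal]
    rfl
  have hrange : Set.range i.left = Points.ofPt p ⁻¹' (Z ∩ GEX p (n + 1)) := by
    change Set.range (W.ι ≫ ι) = _
    ext x
    constructor
    · rintro ⟨w, rfl⟩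
      rw [Scheme.Hom.comp_apply]
      refine ⟨?_, w.2⟩
      have : ι w.1 ∈ Points.ofPt p ⁻¹' Z := hιr ▸ ⟨w.1, rfl⟩
      exact this
    · rintro ⟨hx1, hx2⟩
      obtain ⟨q, rfl⟩ : x ∈ Set.range ι := hιr ▸ hx1
      exact ⟨⟨q, hx2⟩, by rw [Scheme.Hom.comp_apply]; rfl⟩
  let g : (yon S).obj T ⟶ X := (yon S).map i ≫ p
  have hg : ∀ t, Points.ofPt g t = Points.ofPt p (i.left t) := K610.Base.ofPt_map_comp i p
  have hgZ : ∀ t, Points.ofPt g t ∈ Z ∩ GEX p (n + 1) := fun t => by
    rw [hg]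
    have : i.left t ∈ Points.ofPt p ⁻¹' (Z ∩ GEX p (n + 1)) := hrange ▸ ⟨t, rfl⟩
    exact this
  -- the pullback of the chart
  obtain ⟨V, snd, fst, sq⟩ := hp.1 g
  have hse : Etale snd.left := hp.2 g fst snd sq
  have hss : IsSeparated snd.left := hs.2 g fst snd sq
  obtain ⟨fst, rfl⟩ := (yon S).map_surjective fst
  have hfin : IsFinite snd.left := by
    refine isFinite_of_GE (n + 1) snd.left ?_ ?_
    · rw [← preimage_GEX sq]
      exact Set.eq_univ_of_forall fun t => (hgZ t).2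
    · rw [← preimage_GEX sq]
      refine Set.eq_empty_of_forall_notMem fun t ht => ?_
      have : Points.ofPt g t ∈ Z ∩ GEX p (n + 2) := ⟨(hgZ t).1, ht⟩
      rw [h2] at this
      exact this
  -- the projection to `Z ∩ GEX p (n + 1)`
  let Z' : Set (Points X) := Z ∩ GEX p (n + 1)
  let π : ↥T.left → Z' := fun t => ⟨Points.ofPt g t, hgZ t⟩
  have hπc : Continuous π := (Points.continuous_ofPt g).subtype_mk _
  have hZ'r : ∀ z ∈ Z', ∃ t, Points.ofPt g t = z := by
    rintro z ⟨hz1, hz2⟩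
    have h3 : z ∈ Set.range (Points.ofPt p) := by
      rw [← GEX_one p hp.1]; exact GEX_antitone p (Nat.le_add_left 1 n) hz2
    obtain ⟨u, rfl⟩ := h3
    have h4 : u ∈ Set.range i.left := by rw [hrange]; exact ⟨hz1, hz2⟩
    obtain ⟨t, rfl⟩ := h4
    exact ⟨t, hg t⟩
  have hπs : Function.Surjective π := fun ⟨z, hz⟩ => by
    obtain ⟨t, ht⟩ := hZ'r z hz
    exact ⟨t, Subtype.ext ht⟩
  have hπo : IsOpenMap π := by
    intro O hO
    obtain ⟨O₀, hO₀, rfl⟩ := hemb.isOpen_iff.1 hO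
    have : π '' (i.left ⁻¹' O₀) = Subtype.val ⁻¹' (Points.ofPt p '' O₀) := by
      ext ⟨z, hz⟩
      constructor
      · rintro ⟨t, ht, htz⟩
        exact ⟨i.left t, ht, by rw [← hg]; exact congrArg Subtype.val htz⟩
      · rintro ⟨u, hu, huz⟩
        change Points.ofPt p u = z at huz
        have h4 : u ∈ Set.range i.left := by
          rw [hrange, Set.mem_preimage, huz]; exact hz
        obtain ⟨t, rfl⟩ := h4
        exact ⟨t, hu, Subtype.ext ((hg t).trans huz)⟩
    rw [this]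
    exact (K610.Base.isOpenMap_ofPt_etale hp _ hO₀).preimage continuous_subtype_val
  have hsat : ∀ (t t' : ↥T.left), Points.ofPt g t = Points.ofPt g t' ↔
      ∃ v : ↥V.left, fst.left v = i.left t ∧ snd.left v = t' := by
    intro t t'
    constructor
    · intro h
      exact K610.Base.exists_of_isPullback_charts sq _ _ (by rw [← hg, h])
    · rintro ⟨v, hv1, hv2⟩
      rw [hg t, ← hv1, ← hv2, ← K610.Base.ofPt_map_comp, ← K610.Base.ofPt_map_comp, sq.w]
  have hπcl : IsClosedMap π := by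
    intro D hD
    obtain ⟨D₀, hD₀, rfl⟩ := hemb.isClosed_iff.1 hD
    rw [← (hπo.isQuotientMap hπc hπs).isClosed_preimage]
    have : π ⁻¹' (π '' (i.left ⁻¹' D₀)) = snd.left '' (fst.left ⁻¹' D₀) := by
      ext t
      constructor
      · rintro ⟨t', ht', h⟩
        obtain ⟨v, hv1, hv2⟩ := (hsat t' t).1 (congrArg Subtype.val h)
        exact ⟨v, by rw [Set.mem_preimage, hv1]; exact ht', hv2⟩
      · rintro ⟨v, hv, rfl⟩
        have h3 : Points.ofPt p (fst.left v) = Points.ofPt g (snd.left v) := by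
          rw [← K610.Base.ofPt_map_comp, ← K610.Base.ofPt_map_comp, sq.w]
        have h4 : fst.left v ∈ Set.range i.left := by
          rw [hrange, Set.mem_preimage, h3]; exact hgZ _
        obtain ⟨t', ht'⟩ := h4
        refine ⟨t', ?_, Subtype.ext ((hsat t' _).2 ⟨v, ht'.symm, rfl⟩)⟩
        rw [Set.mem_preimage, ht']; exact hv
    rw [this]
    exact snd.left.isClosedMap _ (hD₀.preimage fst.left.continuous)
  have hπf : ∀ z, (π ⁻¹' {z}).Finite := by
    intro z
    obtain ⟨t₀, rfl⟩ := hπs z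
    have h3 : (snd.left ⁻¹' {t₀}).Finite := snd.left.finite_preimage_singleton t₀
    refine Set.Finite.of_finite_image (f := i.left) ((h3.image fst.left).subset ?_) hemb.injective.injOn
    rintro _ ⟨t, ht, rfl⟩
    obtain ⟨v, hv1, hv2⟩ := (hsat t t₀).1 (congrArg Subtype.val ht)
    exact ⟨v, hv2, hv1⟩
  have hirr : IrreducibleSpace Z' := by
    have : Nonempty Z' := h1.to_subtype
    refine { toNonempty := inferInstance, isPreirreducible_univ := ?_ }
    rintro A B hA hB ⟨a, -, ha⟩ ⟨b, -, hb⟩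
    obtain ⟨A₀, hA₀, rfl⟩ := isOpen_induced_iff.1 hA
    obtain ⟨B₀, hB₀, rfl⟩ := isOpen_induced_iff.1 hB
    obtain ⟨x, hx1, ⟨hx2, hx3⟩, hx4, hx5⟩ := hZ _ _ (hA₀.inter hO) (hB₀.inter hO) ⟨a.1, a.2.1, ha, a.2.2⟩
      ⟨b.1, b.2.1, hb, b.2.2⟩
    exact ⟨⟨x, hx1, hx3⟩, trivial, hx2, hx4⟩
  obtain ⟨z, hz⟩ := exists_generic_of_closed_finite π hπc hπcl hπs hπf
  refine ⟨z.1, z.2.1, fun x hx => ?_⟩
  rw [mem_closure_iff]
  intro A hA hxA
  obtain ⟨y, hy1, hy2, hy3⟩ := hZ A _ hA hO ⟨x, hx, hxA⟩ h1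
  have h5 : (⟨y, hy1, hy3⟩ : Z') ∈ closure {z} := by rw [hz]; trivial
  rw [mem_closure_iff] at h5
  obtain ⟨_, h6, rfl⟩ := h5 _ (hA.preimage continuous_subtype_val) hy2
  exact ⟨_, h6, rfl⟩

/-- The space of points of a decent algebraic space is quasi-sober. -/
theorem quasiSober {X : Sp S} (hX : IsAlgSpace X) (hd : IsDecent X) : QuasiSober (Points X) := by
  refine ⟨fun {Z} hZ hZc => ?_⟩
  obtain ⟨U₀, p₀, hp₀, hs₀⟩ := hX.atlas
  obtain ⟨z, hz⟩ := hZ.nonempty
  obtain ⟨u₀, rfl⟩ := K610.Base.surjective_ofPt hs₀ z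
  obtain ⟨U, i, u, hU, -, hu, hp, hs, -⟩ := exists_affine_chart p₀ hp₀ u₀ Set.univ isOpen_univ trivial
  have hZ' : ∀ A B : Set (Points X), IsOpen A → IsOpen B → (Z ∩ A).Nonempty → (Z ∩ B).Nonempty →
      (Z ∩ (A ∩ B)).Nonempty := fun A B hA hB h1 h2 => hZ.isPreirreducible A B hA hB h1 h2
  obtain ⟨n, h1, h2⟩ := exists_level hd hp hs hZc hZ' ⟨_, hz, u, by
    rw [K610.Base.ofPt_map_comp, hu]⟩
  obtain ⟨x, hx, hx'⟩ := exists_generic hp hs hZc hZ' n h1 h2
  exact ⟨x, (hZc.closure_subset_iff.2 (Set.singleton_subset_iff.2 hx)).antisymm hx'⟩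

end K617.Sober
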